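import Cfsg.Agent.H935.A7Q.Base

/-!
# `2.A₇` in dimension twelve with a symmetric form, characteristic not three (helper935)
-/

set_option autoImplicit false
set_option linter.unusedSectionVars false

namespace Cfsg.Agent.H935.A7Q

open Module Equiv.Perm Cfsg.Agent.H637.A7Grp Cfsg.Agent.H637.A7Cov Polynomial

/-! ### elements of `A₇` -/

/-- `(3 4 5)` -/
def bb : alternatingGroup (Fin 7) := s 1 * s 2 * s 3 * s 1 * s 2

/-- `(0 3)(1 4 2 5)` -/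
def sg : alternatingGroup (Fin 7) := s 1 * s 3 * s 0 * s 0 * s 2

/-- `(3 4)(5 6)` -/
def qq : alternatingGroup (Fin 7) := ⟨c[3, 4] * c[5, 6], mem_alternatingGroup.2 (by decide +kernel)⟩

theorem bb_cube : bb ^ 3 = 1 := by decide +kernel
theorem sg_s : sg * s 0 = bb * sg := by decide +kernel
theorem sg_bb : sg * bb = s 0 * s 0 * sg := by decide +kernel
theorem sg_four : sg * sg * (sg * sg) = 1 := by decide +kernel
theorem sg_two : sg * sg ≠ 1 := by decide +kernel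
theorem s_bb : s 0 * bb = bb * s 0 := by decide +kernel
theorem qq_s : qq * s 0 = s 0 * qq := by decide +kernel
theorem qq_bb : bb * (qq * (bb * bb) * qq⁻¹) * (bb * (qq * (bb * bb) * qq⁻¹)) = 1 := by decide +kernel
theorem qq_bb' : bb * (qq * (bb * bb) * qq⁻¹) ≠ 1 := by decide +kernel

variable {K V D : Type*} [Field K] [AddCommGroup V] [Module K V] [Group D] {π : D →* alternatingGroup (Fin 7)}
  {g : Fin 5 → D} {z : D} {ρ : D →* Module.End K V} {B : V →ₗ[K] V →ₗ[K] K}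

/-- the elements -/
structure El (π : D →* alternatingGroup (Fin 7)) (z a b σ q : D) : Prop where
  a3 : a ^ 3 = 1
  b3 : b ^ 3 = 1
  pa : π a = s 0
  pb : π b = bb
  as : a * σ = σ * b ^ 2
  bs : b * σ = σ * a
  ab : a * b = b * a
  s4 : σ * σ * (σ * σ) = z
  qa : q * a = a * q
  bq : b * (q * b ^ 2 * q⁻¹) * (b * (q * b ^ 2 * q⁻¹)) = z

theorem exists_el (H : Good π g z) : ∃ b σ q : D, El π z (g 0) b σ q ∧ σ = g 1 * g 3 * g 0 * g 0 * g 2 ∧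
    b = (g 1 * g 2 * g 3 * g 1 * g 2) ^ 4 := by
  obtain ⟨b, hb⟩ : ∃ b, b = (g 1 * g 2 * g 3 * g 1 * g 2) ^ 4 := ⟨_, rfl⟩
  obtain ⟨σ, hσ⟩ : ∃ σ, σ = g 1 * g 3 * g 0 * g 0 * g 2 := ⟨_, rfl⟩
  obtain ⟨q, hq⟩ := H.surj qq
  have hb0 : π (g 1 * g 2 * g 3 * g 1 * g 2) = bb := by
    simp only [map_mul, H.gP]; rfl
  have hsg : π σ = sg := by
    rw [hσ]; simp only [map_mul, H.gP]; rfl
  obtain ⟨h1, h2⟩ := lift_pow H (n := 3) ⟨1, rfl⟩ (x := g 1 * g 2 * g 3 * g 1 * g 2) (by rw [hb0, bb_cube])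
  have h1' : b ^ 3 = 1 := by rw [hb]; exact h1
  have h2' : π b = bb := by rw [← hb0, hb]; exact h2
  have cj3 : ∀ x y : D, x ^ 3 = 1 → (y * x * y⁻¹) ^ 3 = 1 := by
    intro x y hx
    rw [conj_pow, hx, mul_one, mul_inv_cancel]
  have e1 : σ * g 0 * σ⁻¹ = b := by
    refine eq_odd H ⟨1, rfl⟩ ?_ (cj3 _ _ (H.cube 0)) h1'
    rw [map_mul, map_mul, map_inv, hsg, H.gP, h2', sg_s, mul_inv_cancel_right]
  have e2 : σ * b * σ⁻¹ = g 0 ^ 2 := by
    refine eq_odd H (n := 3) ⟨1, rfl⟩ ?_ (cj3 _ _ h1') (by rw [← pow_mul, mul_comm, pow_mul, H.cube, one_pow])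
    rw [map_mul, map_mul, map_inv, hsg, map_pow, H.gP, h2', sg_bb, mul_inv_cancel_right, pow_two]
  have e3 : g 0 * b * (g 0)⁻¹ = b := by
    refine eq_odd H ⟨1, rfl⟩ ?_ (cj3 _ _ h1') h1'
    rw [map_mul, map_mul, map_inv, H.gP, h2', s_bb, mul_inv_cancel_right]
  have e4 : q * g 0 * q⁻¹ = g 0 := by
    refine eq_odd H ⟨1, rfl⟩ ?_ (cj3 _ _ (H.cube 0)) (H.cube 0)
    rw [map_mul, map_mul, map_inv, H.gP, hq, qq_s, mul_inv_cancel_right]
  refine ⟨b, σ, q, ⟨H.cube 0, h1', H.gP 0, h2', ?_, ?_, ?_, ?_, ?_, ?_⟩, hσ, hb⟩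
  · have h3 : g 0 = (σ * b * σ⁻¹) ^ 2 := by
      rw [e2, ← pow_mul, show 2 * 2 = 3 + 1 from rfl, pow_succ, H.cube, one_mul]
    rw [conj_pow] at h3
    nth_rewrite 1 [h3]
    rw [inv_mul_cancel_right]
  · rw [← e1, inv_mul_cancel_right]
  · exact mul_inv_eq_iff_eq_mul.1 e3
  · apply H.sq_eq
    · rw [map_mul, hsg]; exact sg_four
    · rw [map_mul, hsg]; exact sg_two
  · exact mul_inv_eq_iff_eq_mul.1 e4
  · apply H.sq_eq
    · simp only [map_mul, map_inv, hq, h2', pow_two]; exact qq_bb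
    · simp only [map_mul, map_inv, hq, h2', pow_two]; exact qq_bb'

section cross

variable (C : Ctx π g z ρ B) {a b σ q : D} (E : El π z a b σ q)
include C E

/-- `b` is not trivial on an eigenspace of `a` -/
theorem nontriv {μ : K} (h : ∀ v ∈ Eg (ρ a) μ, ρ b v = v) : Eg (ρ a) μ = ⊥ := by
  rw [eq_bot_iff]
  intro v hv
  have hq : ∀ v ∈ Eg (ρ a) μ, ρ q⁻¹ v ∈ Eg (ρ a) μ := by
    intro v hv
    rw [mem_Eg, ← rho_mul]
    have h1 : a * q⁻¹ = q⁻¹ * a := by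
      rw [eq_inv_mul_iff_mul_eq, ← mul_assoc, E.qa, mul_inv_cancel_right]
    rw [h1, rho_mul, mem_Eg.1 hv, map_smul]
  refine no_fix C E.bq ?_
  rw [rho_mul, rho_mul, rho_mul]
  have h1 := hq v hv
  have h2 : ρ (b ^ 2) (ρ q⁻¹ v) = ρ q⁻¹ v := by rw [pow_two, rho_mul, h _ h1, h _ h1]
  rw [h2]
  have h3 : ρ q (ρ q⁻¹ v) = v := by rw [← rho_mul, mul_inv_cancel, map_one]; rfl
  rw [h3, h v hv]

/-- the step `(μ, ν) → (ν⁻¹, μ)` -/
theorem mem_step {μ ν ν' : K} (hν : ν ^ 2 = ν') {v : V} (h : v ∈ Eg (ρ a) μ ⊓ Eg (ρ b) ν) :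
    ρ σ v ∈ Eg (ρ a) ν' ⊓ Eg (ρ b) μ := by
  obtain ⟨h1, h2⟩ := h
  have h1' := mem_Eg.1 h1
  have h2' := mem_Eg.1 h2
  refine ⟨?_, ?_⟩
  · change ρ σ v ∈ Eg (ρ a) ν'
    rw [mem_Eg, ← rho_mul, E.as, rho_mul, pow_two, rho_mul, h2', map_smul, h2', map_smul, map_smul, smul_smul, ← pow_two,
      hν]
  · change ρ σ v ∈ Eg (ρ b) μ
    rw [mem_Eg, ← rho_mul, E.bs, rho_mul, h1', map_smul]

theorem step [FiniteDimensional K V] {μ ν ν' : K} (hν : ν ^ 2 = ν') : finrank K ↥(Eg (ρ a) μ ⊓ Eg (ρ b) ν) ≤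
    finrank K ↥(Eg (ρ a) ν' ⊓ Eg (ρ b) μ) :=
  finrank_le_rho C σ fun _ h => mem_step C E hν h

end cross

theorem aeval_cube {T : V →ₗ[K] V} {ω : K} (hω : ω ^ 2 + ω + 1 = 0) (hT : ∀ v, T (T (T v)) = v) (v : V) :
    aeval T (∏ i : Fin 3, (X - C ((![1, ω, ω ^ 2] : Fin 3 → K) i))) v = 0 := by
  have h1 : (∏ i : Fin 3, (X - C ((![1, ω, ω ^ 2] : Fin 3 → K) i))) = X ^ 3 - (1 : K[X]) := by
    rw [Fin.prod_univ_three]
    simp only [Matrix.cons_val_zero, Matrix.cons_val_one, Matrix.cons_val, map_one, map_pow]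
    have h2 : (C ω : K[X]) ^ 2 + C ω + 1 = 0 := by
      rw [← C_pow, ← C_add, ← C_1, ← C_add, hω, C_0]
    linear_combination (X * C ω - X ^ 2 + 1 - C ω) * h2
  rw [h1, map_sub, map_pow, aeval_X, map_one, LinearMap.sub_apply]
  change T (T (T v)) - v = 0
  rw [hT, sub_self]

theorem mu_inj {ω : K} (hω : ω ^ 2 + ω + 1 = 0) (h3 : (3 : K) ≠ 0) :
    Function.Injective (![1, ω, ω ^ 2] : Fin 3 → K) := by
  have h1 : (1 : K) ≠ ω := by
    rintro rfl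
    apply h3
    linear_combination hω
  have h2 : (1 : K) ≠ ω ^ 2 := by
    intro h
    apply h3
    linear_combination (-(ω - 2)) * hω - (ω - 1) * h
  have h3' : ω ≠ ω ^ 2 := by
    intro h
    apply h1
    linear_combination (1 - ω) * hω - (1 + ω) * h
  intro i j h
  fin_cases i <;> fin_cases j
  all_goals first
    | rfl
    | exact absurd h h1
    | exact absurd h h2
    | exact absurd h h3'
    | exact absurd h.symm h1
    | exact absurd h.symm h2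
    | exact absurd h.symm h3'

/-- **Characteristic not three.** -/
theorem cross (C : Ctx π g z ρ B) [FiniteDimensional K V] (h12 : finrank K V = 12) {ω : K} (hω : ω ^ 2 + ω + 1 = 0)
    (h3 : (3 : K) ≠ 0) : False := by
  obtain ⟨b, σ, q, E, -, -⟩ := exists_el C.good
  set a := g 0 with ha
  have hω3 : ω ^ 3 = 1 := by linear_combination (ω - 1) * hω
  set μ : Fin 3 → K := ![1, ω, ω ^ 2] with hμ
  have hμi : Function.Injective μ := mu_inj hω h3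
  have cube : ∀ {x : D}, x ^ 3 = 1 → ∀ v, ρ x (ρ x (ρ x v)) = v := by
    intro x hx v
    have h1 : x * x * x = 1 := by rw [← hx, pow_succ, pow_two]
    rw [← rho_mul, ← rho_mul, h1, map_one]
    rfl
  have dec : ∀ {x : D}, x ^ 3 = 1 → ∀ U : Submodule K V, (∀ v ∈ U, ρ x v ∈ U) →
      U ≤ ⨆ i ∈ Finset.univ, (U ⊓ Eg (ρ x) (μ i)) ∧ finrank K U = ∑ i, finrank K ↥(U ⊓ Eg (ρ x) (μ i)) := by
    intro x hx U hU
    exact decomp (ρ x) μ hμi Finset.univ U hU (fun v _ => aeval_cube hω (cube hx) v)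
  have hbU : ∀ κ : K, ∀ v ∈ Eg (ρ a) κ, ρ b v ∈ Eg (ρ a) κ := by
    intro κ v hv
    rw [mem_Eg, ← rho_mul, E.ab, rho_mul, mem_Eg.1 hv, map_smul]
  obtain ⟨d1, d2⟩ := dec E.a3 ⊤ (fun _ _ => Submodule.mem_top)
  have dE := fun κ : K => dec E.b3 (Eg (ρ a) κ) (hbU κ)
  -- the pairing
  have pair : ∀ {κ κ' l l' : K}, κ * κ' = 1 → l * l' = 1 → ∀ v ∈ Eg (ρ a) κ ⊓ Eg (ρ b) l,
      (∀ w ∈ Eg (ρ a) κ' ⊓ Eg (ρ b) l', B v w = 0) → v = 0 := by
    intro κ κ' l l' h1 h2 v hv h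
    apply C.nd
    intro w
    refine perp_of (C.inv a) d1 h1 (mem_Eg.1 hv.1) ?_ w Submodule.mem_top
    rintro w ⟨-, hw⟩
    exact perp_of (C.inv b) (dE κ').1 h2 (mem_Eg.1 hv.2) h w hw
  -- parity
  have par : ∀ {κ κ' l l' : K}, κ ^ 2 = κ' → l ^ 2 = l' → κ' ^ 2 = κ → l' ^ 2 = l → κ * κ' = 1 → l * l' = 1 →
      Even (finrank K ↥(Eg (ρ a) κ ⊓ Eg (ρ b) l)) := by
    intro κ κ' l l' h1 h2 h3 h4 h5 h6
    refine even_finrank C E.s4 (U' := Eg (ρ a) κ' ⊓ Eg (ρ b) l') ?_ ?_ (pair h5 h6)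
    · intro v hv
      rw [rho_mul]
      exact mem_step C E h1 (mem_step C E h2 hv)
    · intro v hv
      rw [rho_mul]
      exact mem_step C E h3 (mem_step C E h4 hv)
  have hω4 : (ω ^ 2) ^ 2 = ω := by linear_combination ω * hω3
  -- the multiplicities
  rw [Fin.sum_univ_three, finrank_top, h12] at d2
  have htop : ∀ W : Submodule K V, finrank K ↥(⊤ ⊓ W) = finrank K ↥W := fun W => by rw [top_inf_eq]
  rw [htop, htop, htop] at d2
  have e0 := (dE 1).2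
  have e1 := (dE ω).2
  have e2 := (dE (ω ^ 2)).2
  rw [Fin.sum_univ_three] at e0 e1 e2
  have μ0 : μ 0 = 1 := rfl
  have μ1 : μ 1 = ω := rfl
  have μ2 : μ 2 = ω ^ 2 := rfl
  rw [μ0, μ1, μ2] at d2 e0 e1 e2
  have one2 : (1 : K) ^ 2 = 1 := one_pow 2
  have s1 := step C E (μ := 1) (ν := ω) (ν' := ω ^ 2) rfl
  have s2 := step C E (μ := ω ^ 2) (ν := 1) (ν' := 1) one2
  have s3 := step C E (μ := 1) (ν := ω ^ 2) (ν' := ω) hω4
  have s4 := step C E (μ := ω) (ν := 1) (ν' := 1) one2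
  have t1 := step C E (μ := ω) (ν := ω) (ν' := ω ^ 2) rfl
  have t2 := step C E (μ := ω ^ 2) (ν := ω) (ν' := ω ^ 2) rfl
  have t3 := step C E (μ := ω ^ 2) (ν := ω ^ 2) (ν' := ω) hω4
  have t4 := step C E (μ := ω) (ν := ω ^ 2) (ν' := ω) hω4
  have p1 := par (κ := 1) (l := ω) (κ' := 1) (l' := ω ^ 2) one2 rfl one2 hω4 (one_mul 1) (by rw [← hω3]; ring)
  have p2 := par (κ := ω) (l := ω) (κ' := ω ^ 2) (l' := ω ^ 2) rfl rfl hω4 hω4 (by rw [← hω3]; ring) (by rw [← hω3]; ring)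
  -- non-triviality
  have nt : ∀ κ : K, finrank K ↥(Eg (ρ a) κ) ≠ 0 →
      finrank K ↥(Eg (ρ a) κ ⊓ Eg (ρ b) ω) ≠ 0 ∨ finrank K ↥(Eg (ρ a) κ ⊓ Eg (ρ b) (ω ^ 2)) ≠ 0 := by
    intro κ h0
    by_contra hcon
    push Not at hcon
    have h1 := (dE κ).2
    rw [Fin.sum_univ_three, μ0, μ1, μ2, hcon.1, hcon.2, add_zero, add_zero] at h1
    have h2 : Eg (ρ a) κ ⊓ Eg (ρ b) 1 = Eg (ρ a) κ := Submodule.eq_of_le_of_finrank_eq inf_le_left h1.symm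
    apply h0
    rw [nontriv C E (μ := κ) ?_, finrank_bot]
    intro v hv
    rw [← h2] at hv
    have h3 := mem_Eg.1 hv.2
    rwa [one_smul] at h3
  have n0 := nt 1
  have n1 := nt ω
  rw [e0] at n0 d2
  rw [e1] at n1 d2
  rw [e2] at d2
  obtain ⟨x, hx⟩ := p1
  obtain ⟨y, hy⟩ := p2
  omega

end Cfsg.Agent.H935.A7Q
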