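import Cfsg.Agent.H935.A7Q.Three

/-!
# `2.A₇` in dimension twelve with a symmetric form, characteristic three: the end (helper935)
-/

set_option autoImplicit false
set_option linter.unusedSectionVars false

namespace Cfsg.Agent.H935.A7Q

open Module Equiv.Perm Cfsg.Agent.H637.A7Grp Cfsg.Agent.H637.A7Cov Polynomial

variable {K V D : Type*} [Field K] [AddCommGroup V] [Module K V] [Group D] {π : D →* alternatingGroup (Fin 7)}
  {g : Fin 5 → D} {z : D} {ρ : D →* Module.End K V} {B : V →ₗ[K] V →ₗ[K] K}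

theorem rho_inv_mul (x : D) (v : V) : ρ x⁻¹ (ρ x v) = v := by
  rw [← rho_mul, inv_mul_cancel, map_one]
  rfl

theorem rho_mul_inv (x : D) (v : V) : ρ x (ρ x⁻¹ v) = v := by
  rw [← rho_mul, mul_inv_cancel, map_one]
  rfl

section

variable (C : Ctx π g z ρ B) [FiniteDimensional K V] (h12 : finrank K V = 12) {W : Submodule K V} (S : St g ρ B W)
  (hP : Pp B W = W) {t c y : D} (E : El3 π g z t c y)

include C S in
theorem iv6 {l : List (Fin 5)} (hl : ∀ i ∈ l, i ≠ 4) {x : D} (hx : π x = (l.map s).prod) : Iv ρ W x :=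
  Iv.word C (fun i hi => S.iv i (hl i hi)) hx

include C h12 S hP E

/-- `W` is not invariant under `t` -/
theorem not_iv (h : Iv ρ W t) : False := by
  have hfin := C.good.fin
  have h4 : Iv ρ W (g 4) := by
    obtain ⟨x, hx⟩ : ∃ x, x = (([3, 1, 1] : List (Fin 5)).map g).prod := ⟨_, rfl⟩
    have hx' : π x = (([3, 1, 1] : List (Fin 5)).map s).prod := by rw [hx, pi_word C.good]
    have ix : Iv ρ W x := iv6 C S (by decide) hx'
    refine ((h.mul ix).mul h.inv).congr C ?_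
    rw [C.good.gP, map_mul, map_mul, map_inv, hx', E.pt]
    exact tt_4
  have hall : ∀ i, Iv ρ W (g i) := by
    intro i
    by_cases hi : i = 4
    · rw [hi]; exact h4
    · exact S.iv i hi
  have hD : ∀ d, Iv ρ W d := by
    intro d
    have hd : d ∈ Subgroup.closure (Set.range g) := by rw [C.good.gen]; trivial
    induction hd using Subgroup.closure_induction with
    | mem x hx =>
      obtain ⟨i, rfl⟩ := hx
      exact hall i
    | one => exact Iv.one W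
    | mul x y _ _ hx hy => exact hx.mul hy
    | inv x _ hx => exact hx.inv
  have h6 := finrank_lagr C hP
  rcases C.irr W (fun d v hv => hD d v hv) with h | h
  · rw [h, finrank_bot] at h6
    omega
  · rw [h, finrank_top] at h6
    omega

/-- the intersection -/
theorem iv_tt : Iv ρ W (t * t) := by
  refine iv6 C S (l := [0, 1, 1, 0, 2]) (by decide) ?_
  rw [map_mul, E.pt]
  exact tt_sq

/-- the case of trivial intersection -/
theorem case_bot {l : K} (hl : l ^ 4 = -1) (h : W ⊓ W.comap (ρ t⁻¹) = ⊥) : False := by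
  have itt := iv_tt C h12 S hP E
  have h6 := finrank_lagr C hP
  rw [h12] at h6
  have ht4 : ∀ v, ρ t (ρ t (ρ t (ρ t v))) = -v := by
    intro v
    rw [← rho_mul, ← rho_mul, ← rho_mul, show t * t * t * t = t * t * (t * t) by group, E.t4, C.rz]
  obtain ⟨d1, d2⟩ := decomp (ρ t) _ (inj_eight hl C.two) Finset.univ ⊤ (fun _ _ => Submodule.mem_top)
    (fun v _ => aeval_eight hl ht4 v)
  -- the complement
  have hc6 : finrank K ↥(W.comap (ρ t⁻¹)) = 6 := by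
    apply le_antisymm
    · have h1 := finrank_le_rho C t⁻¹ (U := W.comap (ρ t⁻¹)) (U' := W) (fun v hv => hv)
      omega
    · have h1 := finrank_le_rho C t (U := W) (U' := W.comap (ρ t⁻¹)) (fun v hv => by
        rw [Submodule.mem_comap, rho_inv_mul]; exact hv)
      omega
  have hcompl : IsCompl W (W.comap (ρ t⁻¹)) := by
    refine ⟨disjoint_iff.2 h, codisjoint_iff.2 ?_⟩
    apply Submodule.eq_top_of_finrank_eq
    have h1 := Submodule.finrank_sup_add_finrank_inf_eq W (W.comap (ρ t⁻¹))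
    rw [h, finrank_bot, hc6] at h1
    rw [h12]
    omega
  -- the involution
  let P := Submodule.projectionOnto W (W.comap (ρ t⁻¹)) hcompl
  let ε : V →ₗ[K] V := (2 : K) • (W.subtype ∘ₗ P) - LinearMap.id
  have hε : ∀ w₁ ∈ W, ∀ w₂ ∈ W.comap (ρ t⁻¹), ε (w₁ + w₂) = w₁ - w₂ := by
    intro w₁ h1 w₂ h2
    have e1 : P w₁ = ⟨w₁, h1⟩ := Submodule.projectionOnto_apply_left hcompl ⟨w₁, h1⟩
    have e2 : P w₂ = 0 := (Submodule.projectionOnto_apply_eq_zero_iff hcompl).2 h2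
    have e3 : ε (w₁ + w₂) = (2 : K) • ((P w₁ : V) + (P w₂ : V)) - (w₁ + w₂) := by
      simp only [ε, LinearMap.sub_apply, LinearMap.smul_apply, LinearMap.comp_apply, LinearMap.id_apply, map_add,
        Submodule.subtype_apply]
      module
    rw [e3, e1, e2, ZeroMemClass.coe_zero, add_zero, two_smul]
    abel
  have hdec : ∀ v, ∃ w₁ ∈ W, ∃ w₂ ∈ W.comap (ρ t⁻¹), v = w₁ + w₂ := by
    intro v
    have h1 : v ∈ W ⊔ W.comap (ρ t⁻¹) := by rw [hcompl.sup_eq_top]; trivial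
    obtain ⟨w₁, h1, w₂, h2, h3⟩ := Submodule.mem_sup.1 h1
    exact ⟨w₁, h1, w₂, h2, h3.symm⟩
  have hswap : ∀ v, ρ t (ε v) = -ε (ρ t v) := by
    intro v
    obtain ⟨w₁, h1, w₂, h2, rfl⟩ := hdec v
    have h3 : ρ t w₁ ∈ W.comap (ρ t⁻¹) := by rw [Submodule.mem_comap, rho_inv_mul]; exact h1
    have h4 : ρ t w₂ ∈ W := by
      have h5 : ρ t w₂ = ρ (t * t) (ρ t⁻¹ w₂) := by rw [rho_mul, rho_mul_inv]
      rw [h5]
      exact itt _ h2
    rw [hε _ h1 _ h2, map_add, add_comm (ρ t w₁), hε _ h4 _ h3, map_sub]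
    abel
  have hneg : ∀ κ : K, finrank K ↥(Eg (ρ t) κ) ≤ finrank K ↥(Eg (ρ t) (-κ)) := by
    intro κ
    refine finrank_le_map ε ?_ ?_
    · intro v _ h0
      obtain ⟨w₁, h1, w₂, h2, rfl⟩ := hdec v
      rw [hε _ h1 _ h2, sub_eq_zero] at h0
      have h3 : w₁ ∈ W ⊓ W.comap (ρ t⁻¹) := ⟨h1, by rw [h0]; exact h2⟩
      rw [h, Submodule.mem_bot] at h3
      rw [← h0, h3, add_zero]
    · intro v hv
      rw [mem_Eg, hswap, mem_Eg.1 hv, map_smul, neg_smul]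
  have hy : ∀ {κ κ' : K}, κ * κ' = 1 → ∀ v ∈ Eg (ρ t) κ, ρ y v ∈ Eg (ρ t) κ' := by
    intro κ κ' hκ v hv
    have h1 : ρ t⁻¹ v = κ' • v := by
      have h2 := mem_Eg.1 hv
      have h3 : v = κ' • ρ t v := by rw [h2, smul_smul, mul_comm, hκ, one_smul]
      nth_rewrite 1 [h3]
      rw [map_smul, rho_inv_mul]
    rw [mem_Eg, ← rho_mul, E.yt, rho_mul, h1, map_smul]
  have hpar : ∀ {κ κ' : K}, κ * κ' = 1 → Even (finrank K ↥(Eg (ρ t) κ)) := by
    intro κ κ' hκ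
    refine even_finrank C E.yy (U' := Eg (ρ t) κ') (hy hκ) (hy (by rw [mul_comm]; exact hκ)) ?_
    intro v hv hv'
    apply C.nd
    intro w
    refine perp_of (C.inv t) d1 hκ (mem_Eg.1 hv) ?_ w Submodule.mem_top
    rintro w ⟨-, hw⟩
    exact hv' w hw
  have htop : ∀ W : Submodule K V, finrank K ↥(⊤ ⊓ W) = finrank K ↥W := fun W => by rw [top_inf_eq]
  rw [Fin.sum_univ_four, finrank_top, h12, htop, htop, htop, htop] at d2
  change 12 = finrank K ↥(Eg (ρ t) l) + finrank K ↥(Eg (ρ t) (-l)) + finrank K ↥(Eg (ρ t) (l ^ 3)) +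
    finrank K ↥(Eg (ρ t) (-l ^ 3)) at d2
  have n1 := hneg l
  have n2 := hneg (-l)
  have n3 := hneg (l ^ 3)
  have n4 := hneg (-l ^ 3)
  rw [neg_neg] at n2 n4
  have hll : l * -l ^ 3 = 1 := by linear_combination -hl
  have i1 := finrank_le_rho C y (hy hll)
  have i2 := finrank_le_rho C y (hy (by rw [mul_comm]; exact hll))
  obtain ⟨k, hk⟩ := hpar hll
  omega

/-- the general case -/
theorem case_mid {ζ : K} (hζ : ζ ^ 4 + ζ ^ 3 + ζ ^ 2 + ζ + 1 = 0) (h5 : (5 : K) ≠ 0)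
    (h0 : W ⊓ W.comap (ρ t⁻¹) ≠ ⊥) (h1 : W ⊓ W.comap (ρ t⁻¹) ≠ W) : False := by
  have hfin := C.good.fin
  obtain ⟨U, hU⟩ : ∃ U, U = W ⊓ W.comap (ρ t⁻¹) := ⟨_, rfl⟩
  rw [← hU] at h0 h1
  have hUW : U ≤ W := by rw [hU]; exact inf_le_left
  have h51 : ζ ^ 5 = 1 := by linear_combination (ζ - 1) * hζ
  have itt := iv_tt C h12 S hP E
  -- invariance of the intersection
  have iU : ∀ {x : D}, Iv ρ W x → Iv ρ W (t⁻¹ * x * t) → Iv ρ U x := by
    intro x i1 i2 v hv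
    rw [hU] at hv ⊢
    refine ⟨i1 v hv.1, ?_⟩
    change ρ t⁻¹ (ρ x v) ∈ W
    have h3 : ρ t⁻¹ (ρ x v) = ρ (t⁻¹ * x * t) (ρ t⁻¹ v) := by
      rw [rho_mul, rho_mul_inv, rho_mul]
    rw [h3]
    exact i2 _ hv.2
  have iUt : Iv ρ U t := by
    intro v hv
    rw [hU] at hv ⊢
    refine ⟨?_, ?_⟩
    · have h3 : ρ t v = ρ (t * t) (ρ t⁻¹ v) := by rw [rho_mul, rho_mul_inv]
      change ρ t v ∈ W
      rw [h3]
      exact itt _ hv.2
    · change ρ t⁻¹ (ρ t v) ∈ W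
      rw [rho_inv_mul]
      exact hv.1
  have iWc : Iv ρ W c := iv6 C S (l := [2, 1, 1, 0]) (by decide) (by rw [E.pc]; decide +kernel)
  have iUc : Iv ρ U c := by
    refine iU iWc (iv6 C S (l := [2, 1, 1, 0, 2, 1, 1, 0, 2, 1, 1, 0]) (by decide) ?_)
    rw [map_mul, map_mul, map_inv, E.pt, E.pc]
    exact tt_c
  have iW1 : Iv ρ W (g 1) := S.iv 1 (by decide)
  have iU1 : Iv ρ U (g 1) := by
    refine iU iW1 (iv6 C S (l := [2, 1, 1]) (by decide) ?_)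
    rw [map_mul, map_mul, map_inv, E.pt, C.good.gP]
    exact tt_1
  -- the eigenspaces of `c`
  have hc5 : ∀ v, ρ c (ρ c (ρ c (ρ c (ρ c v)))) = v := by
    intro v
    rw [← rho_mul, ← rho_mul, ← rho_mul, ← rho_mul, show c * c * c * c * c = c ^ 5 by
      simp only [pow_succ, pow_zero, one_mul], E.c5, map_one]
    rfl
  have dec : ∀ X : Submodule K V, Iv ρ X c → X ≤ ⨆ i ∈ Finset.univ, (X ⊓ Eg (ρ c) ((![1, ζ, ζ ^ 2, ζ ^ 3, ζ ^ 4] : Fin 5 → K) i)) ∧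
      finrank K X = ∑ i, finrank K ↥(X ⊓ Eg (ρ c) ((![1, ζ, ζ ^ 2, ζ ^ 3, ζ ^ 4] : Fin 5 → K) i)) := by
    intro X hX
    exact decomp (ρ c) _ (inj_five hζ h5) Finset.univ X hX (fun v _ => aeval_five hζ hc5 v)
  have tm : ∀ {κ κ' : K}, κ ^ 3 = κ' → ∀ v ∈ Eg (ρ c) κ, ρ t v ∈ Eg (ρ c) κ' := by
    intro κ κ' hκ v hv
    have h3 := mem_Eg.1 hv
    have h4 : ρ (c ^ 3) v = κ' • v := by
      rw [pow_succ, pow_two, rho_mul, rho_mul, h3, map_smul, h3, map_smul, map_smul, h3, smul_smul, smul_smul, ← hκ]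
      congr 1
      ring
    rw [mem_Eg, ← rho_mul, E.tc, rho_mul, h4, map_smul]
  have tm2 : ∀ {κ κ' : K}, κ ^ 9 = κ' → ∀ v ∈ Eg (ρ c) κ, ρ (t * t) v ∈ Eg (ρ c) κ' := by
    intro κ κ' hκ v hv
    rw [rho_mul]
    exact tm (κ := κ ^ 3) (by rw [← pow_mul]; exact hκ) _ (tm rfl v hv)
  obtain ⟨d1, d2⟩ := dec ⊤ (fun _ _ => Submodule.mem_top)
  have pair : ∀ {κ κ' : K}, κ * κ' = 1 → ∀ v ∈ Eg (ρ c) κ, (∀ w ∈ Eg (ρ c) κ', B v w = 0) → v = 0 := by
    intro κ κ' hκ v hv hv'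
    apply C.nd
    intro w
    refine perp_of (C.inv c) d1 hκ (mem_Eg.1 hv) ?_ w Submodule.mem_top
    rintro w ⟨-, hw⟩
    exact hv' w hw
  have z3 : (ζ ^ 3) ^ 3 = ζ ^ 4 := by linear_combination ζ ^ 4 * h51
  have z4 : (ζ ^ 4) ^ 3 = ζ ^ 2 := by linear_combination (ζ ^ 7 + ζ ^ 2) * h51
  have z2 : (ζ ^ 2) ^ 3 = ζ := by linear_combination ζ * h51
  have z9 : ζ ^ 9 = ζ ^ 4 := by linear_combination ζ ^ 4 * h51
  have z9' : (ζ ^ 4) ^ 9 = ζ := by
    have : (ζ ^ 4) ^ 9 = (ζ ^ 5) ^ 7 * ζ := by ring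
    rw [this, h51, one_pow, one_mul]
  have z14 : ζ * ζ ^ 4 = 1 := by rw [← h51]; ring
  have z23 : ζ ^ 2 * ζ ^ 3 = 1 := by rw [← h51]; ring
  have htop : ∀ X : Submodule K V, finrank K ↥(⊤ ⊓ X) = finrank K ↥X := fun X => by rw [top_inf_eq]
  rw [Fin.sum_univ_five, finrank_top, h12, htop, htop, htop, htop, htop] at d2
  change 12 = finrank K ↥(Eg (ρ c) 1) + finrank K ↥(Eg (ρ c) ζ) + finrank K ↥(Eg (ρ c) (ζ ^ 2)) +
    finrank K ↥(Eg (ρ c) (ζ ^ 3)) + finrank K ↥(Eg (ρ c) (ζ ^ 4)) at d2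
  have m1 := finrank_le_rho C t (tm (κ := ζ) rfl)
  have m3 := finrank_le_rho C t (tm z3)
  have m4 := finrank_le_rho C t (tm z4)
  have m2 := finrank_le_rho C t (tm z2)
  obtain ⟨k, hk⟩ := even_finrank C E.t4 (U := Eg (ρ c) ζ) (U' := Eg (ρ c) (ζ ^ 4)) (tm2 z9) (tm2 z9') (pair z14)
  -- the eigenspaces in the intersection
  have du := (dec U iUc).2
  rw [Fin.sum_univ_five] at du
  change finrank K U = finrank K ↥(U ⊓ Eg (ρ c) 1) + finrank K ↥(U ⊓ Eg (ρ c) ζ) + finrank K ↥(U ⊓ Eg (ρ c) (ζ ^ 2)) +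
    finrank K ↥(U ⊓ Eg (ρ c) (ζ ^ 3)) + finrank K ↥(U ⊓ Eg (ρ c) (ζ ^ 4)) at du
  have um : ∀ {κ κ' : K}, κ ^ 3 = κ' → finrank K ↥(U ⊓ Eg (ρ c) κ) ≤ finrank K ↥(U ⊓ Eg (ρ c) κ') := by
    intro κ κ' hκ
    refine finrank_le_rho C t ?_
    rintro v ⟨hv1, hv2⟩
    exact ⟨iUt v hv1, tm hκ v hv2⟩
  have u1 := um (κ := ζ) rfl
  have u3 := um z3
  have u4 := um z4
  have u2 := um z2
  have hpos : finrank K ↥(U ⊓ Eg (ρ c) ζ) ≠ 0 := by
    intro hz
    have hU1 : finrank K U = finrank K ↥(U ⊓ Eg (ρ c) 1) := by omega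
    have hU2 : U ⊓ Eg (ρ c) 1 = U := Submodule.eq_of_le_of_finrank_eq inf_le_left hU1.symm
    have hUc : ∀ v ∈ U, ρ c v = v := by
      intro v hv
      rw [← hU2] at hv
      have h3 := mem_Eg.1 hv.2
      rwa [one_smul] at h3
    apply h0
    rw [eq_bot_iff]
    intro v hv
    refine no_fix C E.cx ?_
    have h3 : ρ (g 1)⁻¹ v ∈ U := iU1.inv v hv
    have h4 : ρ (c ^ 2) (ρ (g 1)⁻¹ v) = ρ (g 1)⁻¹ v := by rw [pow_two, rho_mul, hUc _ h3, hUc _ h3]
    rw [rho_mul, rho_mul, rho_mul, h4, rho_mul_inv, hUc v hv]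
  -- comparison with `W`
  have cmp : ∀ {κ κ' : K}, κ * κ' = 1 → finrank K ↥(Eg (ρ c) κ) ≤ 2 → finrank K ↥(U ⊓ Eg (ρ c) κ) ≠ 0 →
      finrank K ↥(U ⊓ Eg (ρ c) κ') ≠ 0 → U ⊓ Eg (ρ c) κ = W ⊓ Eg (ρ c) κ := by
    intro κ κ' hκ h2 h3 h4
    apply Submodule.eq_of_le_of_finrank_le (inf_le_inf_right _ hUW)
    have h5 : finrank K ↥(W ⊓ Eg (ρ c) κ) < finrank K ↥(Eg (ρ c) κ) := by
      apply Submodule.finrank_lt_finrank_of_lt
      refine lt_of_le_of_ne inf_le_right ?_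
      intro h6
      apply h4
      have h7 : U ⊓ Eg (ρ c) κ' = ⊥ := by
        rw [eq_bot_iff]
        rintro v ⟨hv1, hv2⟩
        refine pair (κ := κ') (κ' := κ) (by rw [mul_comm]; exact hκ) v hv2 ?_
        intro w hw
        rw [← h6] at hw
        exact S.iso _ (hUW hv1) _ hw.1
      rw [h7, finrank_bot]
    omega
  have c1 := cmp z14 (by omega) hpos (by omega)
  have c4 := cmp (κ := ζ ^ 4) (κ' := ζ) (by rw [mul_comm]; exact z14) (by omega) (by omega) hpos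
  have c2 := cmp z23 (by omega) (by omega) (by omega)
  have c3 := cmp (κ := ζ ^ 3) (κ' := ζ ^ 2) (by rw [mul_comm]; exact z23) (by omega) (by omega) (by omega)
  -- `c` acts trivially on `W / U`
  have hcU : ∀ w ∈ W, ρ c w - w ∈ U := by
    intro w hw
    have h2 : W ≤ U.comap (ρ c - 1) := by
      refine (dec W iWc).1.trans (iSup₂_le fun i _ => ?_)
      have aux : ∀ {κ : K}, U ⊓ Eg (ρ c) κ = W ⊓ Eg (ρ c) κ → W ⊓ Eg (ρ c) κ ≤ U.comap (ρ c - 1) := by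
        intro κ hκ v hv
        rw [← hκ] at hv
        exact U.sub_mem (iUc v hv.1) hv.1
      fin_cases i
      · intro v hv
        have h3 := mem_Eg.1 hv.2
        change ρ c v - v ∈ U
        rw [h3]
        change (1 : K) • v - v ∈ U
        rw [one_smul, sub_self]
        exact U.zero_mem
      · exact aux c1
      · exact aux c2
      · exact aux c3
      · exact aux c4
    exact h2 hw
  have hc2 : ∀ w ∈ W, ρ (c ^ 2) w - w ∈ U := by
    intro w hw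
    have h2 : ρ (c ^ 2) w - w = ρ c (ρ c w - w) + (ρ c w - w) := by
      rw [pow_two, rho_mul, map_sub]
      abel
    rw [h2]
    exact U.add_mem (iUc _ (hcU w hw)) (hcU w hw)
  obtain ⟨u, hu⟩ : ∃ u, u = g 1 * c ^ 2 * (g 1)⁻¹ := ⟨_, rfl⟩
  have hcu : ∀ w ∈ W, ρ u w - w ∈ U := by
    intro w hw
    have h2 : ρ u w - w = ρ (g 1) (ρ (c ^ 2) (ρ (g 1)⁻¹ w) - ρ (g 1)⁻¹ w) := by
      rw [hu, rho_mul, rho_mul, map_sub, rho_mul_inv]
    rw [h2]
    exact iU1 _ (hc2 _ (iW1.inv w hw))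
  have hy : ∀ w ∈ W, ρ (c * u) w - w ∈ U := by
    intro w hw
    have h2 : ρ (c * u) w - w = ρ c (ρ u w - w) + (ρ c w - w) := by
      rw [rho_mul, map_sub]
      abel
    rw [h2]
    exact U.add_mem (iUc _ (hcu w hw)) (hcU w hw)
  have iUu : Iv ρ U u := by
    rw [hu]
    exact (iU1.mul (iUc.pow 2)).mul iU1.inv
  apply h1
  refine le_antisymm hUW fun w hw => ?_
  have h2 : ρ (c * u) (ρ (c * u) w - w) + (ρ (c * u) w - w) ∈ U :=
    U.add_mem ((iUc.mul iUu) _ (hy w hw)) (hy w hw)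
  have h3 : ρ (c * u) (ρ (c * u) w - w) + (ρ (c * u) w - w) = -((2 : K) • w) := by
    have h4 : ρ (c * u) (ρ (c * u) w) = -w := by rw [← rho_mul, hu, E.cx, C.rz]
    rw [map_sub, h4, two_smul]
    abel
  rw [h3] at h2
  have h4 := U.neg_mem h2
  rw [neg_neg] at h4
  have h6 := U.smul_mem (2 : K)⁻¹ h4
  rwa [smul_smul, inv_mul_cancel₀ C.two, one_smul] at h6

end

/-- **Characteristic three.** -/
theorem three (C : Ctx π g z ρ B) [FiniteDimensional K V] (h12 : finrank K V = 12) (h3 : (3 : K) = 0) {l : K}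
    (hl : l ^ 4 = -1) {ζ : K} (hζ : ζ ^ 4 + ζ ^ 3 + ζ ^ 2 + ζ + 1 = 0) : False := by
  have hfin := C.good.fin
  have h5 : (5 : K) ≠ 0 := by
    intro h
    apply C.two
    linear_combination h - h3
  obtain ⟨W, S, hP⟩ := exists_lagr C h3 hl
  obtain ⟨t, c, y, E⟩ := exists_el3 C.good
  by_cases h0 : W ⊓ W.comap (ρ t⁻¹) = ⊥
  · exact case_bot C h12 S hP E hl h0
  by_cases h1 : W ⊓ W.comap (ρ t⁻¹) = W
  · apply not_iv C h12 S hP E
    have h2 : Iv ρ W t⁻¹ := by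
      intro v hv
      rw [← h1] at hv
      exact hv.2
    have h4 := h2.inv
    rwa [inv_inv] at h4
  · exact case_mid C h12 S hP E hζ h5 h0 h1

end Cfsg.Agent.H935.A7Q
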