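import Cfsg.Agent.H637.A7Main
import Cfsg.Agent.H933.O10.Base
import Cfsg.Agent.H935.A7Q.Cross
import Cfsg.Agent.H935.A7Q.Three2

/-!
# `2.A₇` has no absolutely irreducible orthogonal representation of degree twelve (helper935)

`no_fixQ`: a core `P` of degree twelve with `Soc P ≅ A₇` and `-1 ∈ P`, in odd characteristic, fixes no non-degenerate
quadratic form.
-/

set_option autoImplicit false
set_option linter.unusedSectionVars false

namespace Cfsg.Agent.H935.A7Q

open Cfsg Cfsg.Geo Matrix Module Cfsg.Agent.H637.A7Main Cfsg.Agent.H637.A7Cov Cfsg.Agent.H915.LD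

universe u

variable {ι : Type} [Fintype ι] [DecidableEq ι] {F : Type u} [Field F] {P : Subgroup (GL ι F)} {Q : (ι → F) → F}

theorem gram_conj (hQ : IsNondegenerateQuadraticForm Q) (hfix : FixesQuadForm (matrixSet P) Q) {g : GL ι F}
    (hg : g ∈ P) : (g : Matrix ι ι F)ᵀ * gramMatrix (QuadraticMap.polar Q) * (g : Matrix ι ι F) =
      gramMatrix (QuadraticMap.polar Q) := by
  have hf : ∀ v, Q ((g : Matrix ι ι F) *ᵥ v) = Q v := fun v => hfix _ ⟨g, hg, rfl⟩ v
  ext i j
  have h1 : QuadraticMap.polar Q ((g : Matrix ι ι F) *ᵥ Pi.single i 1) ((g : Matrix ι ι F) *ᵥ Pi.single j 1) =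
      QuadraticMap.polar Q (Pi.single i 1) (Pi.single j 1) := by
    rw [QuadraticMap.polar, ← mulVec_add, hf, hf, hf]
    rfl
  rw [H933.O10.polar_eq_dot hQ] at h1
  have h2 : (((g : Matrix ι ι F)ᵀ * gramMatrix (QuadraticMap.polar Q) * (g : Matrix ι ι F) : Matrix ι ι F)) i j =
      ((g : Matrix ι ι F) *ᵥ Pi.single i 1) ⬝ᵥ
        (gramMatrix (QuadraticMap.polar Q) *ᵥ ((g : Matrix ι ι F) *ᵥ Pi.single j 1)) := by
    rw [mulVec_mulVec, mulVec_single_one, mulVec_single_one, Matrix.mul_assoc, Matrix.mul_apply]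
    rfl
  rw [h2, h1]
  rfl

theorem gram_symm (Q : (ι → F) → F) : (gramMatrix (QuadraticMap.polar Q))ᵀ = gramMatrix (QuadraticMap.polar Q) := by
  ext i j
  exact QuadraticMap.polar_comm _ _ _

/-- an absolutely irreducible group stays irreducible over the extension -/
theorem irr_mK [Nonempty ι] (K : Type u) [Field K] [Algebra F K] (h : ActsAbsolutelyIrreducibly (matrixSet P))
    (X : Submodule K (ι → K)) (hX : ∀ g : P, ∀ v ∈ X, mK K P g *ᵥ v ∈ X) : X = ⊥ ∨ X = ⊤ := by
  have h1 : ∀ M : Matrix ι ι K, ∀ v ∈ X, M *ᵥ v ∈ X := by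
    intro M v hv
    have hM : M ∈ Submodule.span K (Set.range (mK K P)) := by rw [span_mK K h]; trivial
    induction hM using Submodule.span_induction with
    | mem x hx =>
      obtain ⟨g, rfl⟩ := hx
      exact hX g v hv
    | zero =>
      rw [Matrix.zero_mulVec]
      exact X.zero_mem
    | add x y _ _ hx hy =>
      rw [Matrix.add_mulVec]
      exact X.add_mem hx hy
    | smul c x _ hx =>
      rw [Matrix.smul_mulVec]
      exact X.smul_mem _ hx
  by_cases hb : X = ⊥
  · exact Or.inl hb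
  · right
    obtain ⟨v, hv, hv0⟩ := Submodule.exists_mem_ne_zero_of_ne_bot hb
    obtain ⟨j, hj⟩ : ∃ j, v j ≠ 0 := by
      by_contra hcon
      push Not at hcon
      exact hv0 (funext hcon)
    rw [eq_top_iff]
    intro w _
    have h2 := h1 (Matrix.vecMulVec w (Pi.single j (v j)⁻¹)) v hv
    rw [Matrix.vecMulVec_mulVec, single_dotProduct, inv_mul_cancel₀ hj] at h2
    simpa using h2

/-- **`2.A₇` is not orthogonal in degree twelve.** -/
theorem no_fixQ (hι : Fintype.card ι = 12) (hC : Core P) (e : Soc P ≃* alternatingGroup (Fin 7))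
    (hm : ∃ g ∈ P, (g : Matrix ι ι F) = -1) (h2 : (2 : F) ≠ 0) (hQ : FixQ P) : False := by
  classical
  obtain ⟨Q, hQ, hfix⟩ := hQ
  obtain ⟨g₀, hg₀, hg₀'⟩ := hm
  let K := AlgebraicClosure F
  have hne : Nonempty ι := hC.nonempty
  have hinj : Function.Injective (algebraMap F K) := (algebraMap F K).injective
  have h2K : (2 : K) ≠ 0 := by
    intro h
    apply h2
    apply hinj
    rw [map_ofNat, map_zero]
    exact h
  let π : P →* alternatingGroup (Fin 7) := e.toMonoidHom.comp (toSoc P)
  have hπ : Function.Surjective π := e.surjective.comp (toSoc_surjective P)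
  have hker : π.ker = (scalars ι F).subgroupOf P := ker_comp e
  have hk : ∀ k, π k = 1 → (∀ g, k * g = g * k) ∧ k * k = 1 := by
    intro k hk
    have h1 : k ∈ (scalars ι F).subgroupOf P := by rw [← hker]; exact hk
    refine ⟨fun g => (Subgroup.mem_center_iff.1 (scalars_le_center h1) g).symm, ?_⟩
    obtain ⟨c, hc⟩ := (mem_scalars_iff _).1 (Subgroup.mem_subgroupOf.1 h1)
    obtain ⟨v, hv⟩ := H879.TL.exists_ne_of_nondeg hQ
    have h3 : Q (((k : GL ι F) : Matrix ι ι F) *ᵥ v) = Q v := hfix _ ⟨k, k.2, rfl⟩ v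
    rw [hc, Matrix.smul_mulVec, Matrix.one_mulVec, hQ.smul] at h3
    have h4 : ((c : F) ^ 2 - 1) * Q v = 0 := by rw [sub_mul, h3, one_mul, sub_self]
    have h5 : (c : F) ^ 2 = 1 := sub_eq_zero.1 ((mul_eq_zero.1 h4).resolve_right hv)
    apply Subtype.ext
    apply Units.ext
    rw [Subgroup.coe_mul, Units.val_mul, hc, Matrix.smul_mul, Matrix.one_mul, smul_smul, ← pow_two, h5, one_smul]
    rfl
  obtain ⟨D, g, z, H, hs, -, -⟩ := exists_good π hπ hk hC.commutator_top (Q := Unit) (S := fun _ => 1) (m := 1)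
    (fun _ => rfl) (fun _ _ _ => rfl) rfl (fun _ => rfl)
  let α : D →* P := (MonoidHom.fst _ _).comp D.subtype
  have hα : Function.Surjective α := hs
  have H' : Good (π.comp α) g z := H
  -- the central element
  have hz : mK K P (α z) = -1 := by
    obtain ⟨d, hd⟩ := hα ⟨g₀, hg₀⟩
    have h3 : (π.comp α) d = 1 := by
      have h4 : α d ∈ π.ker := by
        rw [hker, hd, Subgroup.mem_subgroupOf, mem_scalars_iff]
        exact ⟨-1, by rw [hg₀']; simp⟩
      exact h4
    rcases H'.ker d h3 with h | h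
    · exfalso
      rw [h, map_one] at hd
      have h5 : (1 : Matrix ι ι F) = -1 := by
        rw [← hg₀']
        exact congrArg (fun x : P => ((x : GL ι F) : Matrix ι ι F)) hd
      have h6 := congrFun (congrFun h5 (Classical.arbitrary ι)) (Classical.arbitrary ι)
      rw [Matrix.neg_apply, Matrix.one_apply_eq] at h6
      apply h2
      linear_combination h6
    · rw [← h, hd]
      show (g₀ : Matrix ι ι F).map (algebraMap F K) = -1
      rw [hg₀']
      ext i j
      rw [Matrix.map_apply, Matrix.neg_apply, Matrix.neg_apply, map_neg, Matrix.one_apply, Matrix.one_apply]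
      split_ifs
      · rw [map_one]
      · rw [map_zero]
  let ρ : D →* Module.End K (ι → K) :=
    (Matrix.toLinAlgEquiv' (R := K) (n := ι)).toAlgHom.toRingHom.toMonoidHom.comp ((mK K P).comp α)
  have hρ : ∀ d v, ρ d v = mK K P (α d) *ᵥ v := fun d v => rfl
  let M : Matrix ι ι K := (gramMatrix (QuadraticMap.polar Q)).map (algebraMap F K)
  let B : (ι → K) →ₗ[K] (ι → K) →ₗ[K] K := Matrix.toLinearMap₂' K M
  have hB : ∀ v w, B v w = v ⬝ᵥ (M *ᵥ w) := fun v w => Matrix.toLinearMap₂'_apply' M v w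
  have C : Ctx (π.comp α) g z ρ B := by
    refine ⟨H', ?_, ?_, ?_, ?_, ?_, h2K⟩
    · intro v
      rw [hρ, hz, Matrix.neg_mulVec, Matrix.one_mulVec]
    · intro v w
      have hM : Mᵀ = M := by
        show ((gramMatrix (QuadraticMap.polar Q)).map (algebraMap F K))ᵀ = _
        rw [← Matrix.transpose_map, gram_symm]
      rw [hB, hB, dotProduct_mulVec, ← mulVec_transpose, hM, dotProduct_comm]
    · intro d v w
      have h3 : (mK K P (α d))ᵀ * M * mK K P (α d) = M := by
        have h4 := congrArg (fun X : Matrix ι ι F => X.map (algebraMap F K)) (gram_conj hQ hfix (α d).2)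
        simp only [Matrix.map_mul] at h4
        exact h4
      rw [hB, hB, hρ, hρ]
      have h5 : (mK K P (α d) *ᵥ v) ⬝ᵥ (M *ᵥ (mK K P (α d) *ᵥ w)) = v ⬝ᵥ (((mK K P (α d))ᵀ * M * mK K P (α d)) *ᵥ w) := by
        rw [Matrix.mul_assoc, ← Matrix.mulVec_mulVec, ← Matrix.mulVec_mulVec, Matrix.dotProduct_mulVec v,
          Matrix.vecMul_transpose]
      rw [h5, h3]
    · intro v hv
      have hU : IsUnit M := (H933.O10.isUnit_gram hQ).map (algebraMap F K).mapMatrix
      have h3 : v ᵥ* M = 0 := by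
        funext i
        have h4 := hv (Pi.single i 1)
        rw [hB, dotProduct_mulVec, dotProduct_single, mul_one] at h4
        exact h4
      have h5 := Matrix.vecMul_injective_iff_isUnit.2 hU
      apply h5
      show v ᵥ* M = 0 ᵥ* M
      rw [h3, Matrix.zero_vecMul]
    · intro X hX
      refine irr_mK K hC.absIrred X fun x v hv => ?_
      obtain ⟨d, rfl⟩ := hα x
      exact hX d v hv
  have h12 : finrank K (ι → K) = 12 := by rw [Module.finrank_fintype_fun_eq_card, hι]
  by_cases h3 : (3 : K) = 0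
  · obtain ⟨l, hl⟩ := IsAlgClosed.exists_pow_nat_eq (-1 : K) (n := 4) (by norm_num)
    obtain ⟨ζ, hζ⟩ := IsAlgClosed.exists_root
      (Polynomial.X ^ 4 + Polynomial.X ^ 3 + Polynomial.X ^ 2 + Polynomial.X + 1 : Polynomial K) (by
        have h1 : (Polynomial.X ^ 4 + Polynomial.X ^ 3 + Polynomial.X ^ 2 + Polynomial.X + 1 : Polynomial K).degree = 4 := by
          compute_degree!
        rw [h1]; decide)
    refine three C h12 h3 hl (ζ := ζ) ?_
    rw [Polynomial.IsRoot.def] at hζ
    simpa only [Polynomial.eval_add, Polynomial.eval_pow, Polynomial.eval_X, Polynomial.eval_one] using hζ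
  · obtain ⟨ω, hω⟩ := IsAlgClosed.exists_root (Polynomial.X ^ 2 + Polynomial.X + 1 : Polynomial K) (by
        have h1 : (Polynomial.X ^ 2 + Polynomial.X + 1 : Polynomial K).degree = 2 := by
          compute_degree!
        rw [h1]; decide)
    refine cross C h12 (ω := ω) ?_ h3
    rw [Polynomial.IsRoot.def] at hω
    simpa only [Polynomial.eval_add, Polynomial.eval_pow, Polynomial.eval_X, Polynomial.eval_one] using hω

end Cfsg.Agent.H935.A7Q
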