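import Mathlib

/-!
# Linear algebra for the quadratic-form case of `2.A₇` in dimension twelve (helper935)

* `even_of_skew` : a subspace with a non-degenerate skew form has even dimension;
* `decomp` : eigenspace decomposition of an invariant subspace killed by a product of distinct linear factors;
* `perp_of` : a form-preserving operator pairs `E μ` with `E μ⁻¹`.
-/

set_option autoImplicit false
set_option linter.unusedSectionVars false

namespace Cfsg.Agent.H935.A7Q

open Module Polynomial

variable {K V : Type*} [Field K] [AddCommGroup V] [Module K V]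

/-- the eigenspace, as a submodule -/
def Eg (T : V →ₗ[K] V) (μ : K) : Submodule K V := LinearMap.ker (T - μ • LinearMap.id)

theorem mem_Eg {T : V →ₗ[K] V} {μ : K} {v : V} : v ∈ Eg T μ ↔ T v = μ • v := by
  unfold Eg
  rw [LinearMap.mem_ker, LinearMap.sub_apply, LinearMap.smul_apply, LinearMap.id_apply, sub_eq_zero]

theorem finrank_le_map [FiniteDimensional K V] {U U' : Submodule K V} (f : V →ₗ[K] V) (hf : ∀ v ∈ U, f v = 0 → v = 0)
    (h : ∀ v ∈ U, f v ∈ U') : finrank K U ≤ finrank K U' := by
  refine LinearMap.finrank_le_finrank_of_injective (f := f.restrict h) ?_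
  rw [← LinearMap.ker_eq_bot, LinearMap.ker_eq_bot']
  rintro ⟨v, hv⟩ h0
  have h1 : f v = 0 := congrArg Subtype.val h0
  exact Subtype.ext (hf v hv h1)

/-- a subspace with a non-degenerate skew form has even dimension -/
theorem even_of_skew [FiniteDimensional K V] (h2 : (2 : K) ≠ 0) (U : Submodule K V) (f : V →ₗ[K] V →ₗ[K] K)
    (hs : ∀ v ∈ U, ∀ w ∈ U, f v w = -f w v) (hn : ∀ v ∈ U, (∀ w ∈ U, f v w = 0) → v = 0) :
    Even (finrank K U) := by
  let b := finBasis K U
  let M : Matrix (Fin (finrank K U)) (Fin (finrank K U)) K := Matrix.of fun i j => f (b i : V) (b j : V)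
  have hM : M.transpose = -M := by
    ext i j
    rw [Matrix.transpose_apply, Matrix.neg_apply]
    exact hs _ (b j).2 _ (b i).2
  have hd : M.det ≠ 0 := by
    intro h0
    obtain ⟨c, hc, hcM⟩ := Matrix.exists_vecMul_eq_zero_iff.2 h0
    apply hc
    set v : U := ∑ i, c i • b i with hv
    have h1 : ∀ j, f (v : V) (b j : V) = 0 := by
      intro j
      have h2 : Matrix.vecMul c M j = 0 := congrFun hcM j
      rw [hv, Submodule.coe_sum, map_sum, LinearMap.sum_apply]
      refine Eq.trans ?_ h2
      unfold Matrix.vecMul dotProduct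
      refine Finset.sum_congr rfl fun i _ => ?_
      rw [Submodule.coe_smul, map_smul, LinearMap.smul_apply, smul_eq_mul]
      rfl
    clear_value v
    have h3 : (v : V) = 0 := by
      refine hn v v.2 fun w hw => ?_
      have h4 : (⟨w, hw⟩ : U) = ∑ j, b.repr ⟨w, hw⟩ j • b j := (b.sum_repr _).symm
      have h5 : w = ((∑ j, b.repr ⟨w, hw⟩ j • b j : U) : V) := congrArg Subtype.val h4
      rw [h5, Submodule.coe_sum, map_sum]
      refine Finset.sum_eq_zero fun j _ => ?_
      rw [Submodule.coe_smul, map_smul, h1, smul_zero]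
    have h6 : v = 0 := Subtype.ext h3
    funext i
    have h7 := Fintype.linearIndependent_iff.1 b.linearIndependent c (by rw [← hv, h6]) i
    exact h7
  have h1 : M.det = (-1) ^ finrank K U * M.det := by
    conv_lhs => rw [← Matrix.det_transpose, hM, Matrix.det_neg, Fintype.card_fin]
  rcases Nat.even_or_odd (finrank K U) with h | h
  · exact h
  · exfalso
    rw [h.neg_one_pow] at h1
    have h3 : (2 : K) * M.det = 0 := by linear_combination h1
    exact hd ((mul_eq_zero.1 h3).resolve_left h2)

section decomp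

variable {ι : Type*} (T : V →ₗ[K] V) (μ : ι → K)

theorem aeval_mem {U : Submodule K V} (hU : ∀ v ∈ U, T v ∈ U) (p : K[X]) {v : V} (hv : v ∈ U) : aeval T p v ∈ U := by
  induction p using Polynomial.induction_on' with
  | add p q hp hq => rw [map_add, LinearMap.add_apply]; exact U.add_mem hp hq
  | monomial n a =>
    rw [aeval_monomial]
    change algebraMap K (Module.End K V) a ((T ^ n) v) ∈ U
    rw [Module.algebraMap_end_apply]
    apply U.smul_mem
    induction n with
    | zero => exact hv
    | succ n ih => rw [pow_succ']; exact hU _ ih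

theorem decomp [FiniteDimensional K V] (hμ : Function.Injective μ) (s : Finset ι) :
    ∀ U : Submodule K V, (∀ v ∈ U, T v ∈ U) → (∀ v ∈ U, aeval T (∏ i ∈ s, (X - C (μ i))) v = 0) →
      U ≤ ⨆ i ∈ s, (U ⊓ Eg T (μ i)) ∧ finrank K U = ∑ i ∈ s, finrank K ↥(U ⊓ Eg T (μ i)) := by
  classical
  induction s using Finset.induction_on with
  | empty =>
    intro U hU h0
    have h1 : U = ⊥ := by
      rw [eq_bot_iff]
      intro v hv
      have := h0 v hv
      rw [Finset.prod_empty, map_one] at this
      exact this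
    rw [h1]
    simp
  | insert j s hj ih =>
    intro U hU h0
    set q : K[X] := ∏ i ∈ s, (X - C (μ i)) with hq
    have hcop : IsCoprime (X - C (μ j)) q := by
      apply IsCoprime.prod_right
      intro i hi
      apply Polynomial.isCoprime_X_sub_C_of_isUnit_sub
      rw [isUnit_iff_ne_zero, sub_ne_zero]
      intro h
      apply hj
      rwa [hμ h]
    set U' : Submodule K V := U ⊓ LinearMap.ker (aeval T q) with hU'
    have hlin : ∀ v, aeval T (X - C (μ j)) v = T v - μ j • v := by
      intro v
      rw [map_sub, aeval_X, aeval_C, LinearMap.sub_apply, Module.algebraMap_end_apply]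
    have hcomm : ∀ p r : K[X], ∀ v, aeval T p (aeval T r v) = aeval T (p * r) v := by
      intro p r v
      rw [map_mul]
      rfl
    have hU'T : ∀ v ∈ U', T v ∈ U' := by
      intro v hv
      refine ⟨hU v hv.1, ?_⟩
      change aeval T q (T v) = 0
      have h1 : aeval T q (T v) = aeval T q (aeval T (X : K[X]) v) := by rw [aeval_X]
      have h2 : aeval T q v = 0 := hv.2
      rw [h1, hcomm, mul_comm, ← hcomm, h2, map_zero]
    obtain ⟨ih1, ih2⟩ := ih U' hU'T (fun v hv => hv.2)
    have hEg : ∀ i ∈ s, U' ⊓ Eg T (μ i) = U ⊓ Eg T (μ i) := by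
      intro i hi
      apply le_antisymm
      · exact inf_le_inf_right _ inf_le_left
      · intro v hv
        refine ⟨⟨hv.1, ?_⟩, hv.2⟩
        change aeval T q v = 0
        have h1 : q = (∏ k ∈ s.erase i, (X - C (μ k))) * (X - C (μ i)) := by
          rw [hq, mul_comm, Finset.mul_prod_erase s (fun k => (X - C (μ k))) hi]
        rw [h1, ← hcomm]
        have h2 : aeval T (X - C (μ i)) v = 0 := by
          rw [map_sub, aeval_X, aeval_C, LinearMap.sub_apply, Module.algebraMap_end_apply, mem_Eg.1 hv.2, sub_self]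
        rw [h2, map_zero]
    obtain ⟨x, y, hxy⟩ := hcop
    have hsplit : ∀ v ∈ U, ∃ v₁ ∈ U ⊓ Eg T (μ j), ∃ v₂ ∈ U', v = v₁ + v₂ := by
      intro v hv
      refine ⟨aeval T (y * q) v, ⟨aeval_mem T hU _ hv, ?_⟩, aeval T (x * (X - C (μ j))) v,
        ⟨aeval_mem T hU _ hv, ?_⟩, ?_⟩
      · change aeval T (y * q) v ∈ Eg T (μ j)
        rw [mem_Eg, ← sub_eq_zero, ← hlin, hcomm]
        have h1 : (X - C (μ j)) * (y * q) = y * ((X - C (μ j)) * q) := by ring
        rw [h1, ← hcomm]
        have h2 := h0 v hv
        rw [Finset.prod_insert hj] at h2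
        rw [h2, map_zero]
      · change aeval T q (aeval T (x * (X - C (μ j))) v) = 0
        rw [hcomm]
        have h1 : q * (x * (X - C (μ j))) = x * ((X - C (μ j)) * q) := by ring
        rw [h1, ← hcomm]
        have h2 := h0 v hv
        rw [Finset.prod_insert hj] at h2
        rw [h2, map_zero]
      · rw [← LinearMap.add_apply, ← map_add, add_comm (y * q), hxy, map_one]
        rfl
    have hsup : U = (U ⊓ Eg T (μ j)) ⊔ U' := by
      apply le_antisymm
      · intro v hv
        obtain ⟨v₁, h1, v₂, h2, rfl⟩ := hsplit v hv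
        exact Submodule.add_mem_sup h1 h2
      · exact sup_le inf_le_left inf_le_left
    have hinf : (U ⊓ Eg T (μ j)) ⊓ U' = ⊥ := by
      rw [eq_bot_iff]
      rintro v ⟨h1, h2⟩
      rw [Submodule.mem_bot]
      have h3 : v = aeval T (x * (X - C (μ j)) + y * q) v := by rw [hxy, map_one]; rfl
      have h4 : aeval T q v = 0 := h2.2
      rw [h3, map_add, LinearMap.add_apply, ← hcomm, ← hcomm, h4, hlin, mem_Eg.1 h1.2, sub_self,
        map_zero, map_zero, add_zero]
    constructor
    · conv_lhs => rw [hsup]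
      rw [Finset.iSup_insert]
      apply sup_le_sup le_rfl
      refine ih1.trans ?_
      apply iSup₂_mono
      intro i hi
      exact (hEg i hi).le
    · rw [Finset.sum_insert hj]
      have h1 := Submodule.finrank_sup_add_finrank_inf_eq (U ⊓ Eg T (μ j)) U'
      rw [hinf, finrank_bot, add_zero, ← hsup] at h1
      rw [h1, ih2]
      congr 1
      exact Finset.sum_congr rfl fun i hi => by rw [hEg i hi]

end decomp

/-- a form-preserving operator pairs `E μ` with `E μ⁻¹` -/
theorem perp_of {ι : Type*} {B : V →ₗ[K] V →ₗ[K] K} {T : V →ₗ[K] V} (hB : ∀ v w, B (T v) (T w) = B v w) {μ : ι → K}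
    {s : Finset ι} {U : Submodule K V} (hU : U ≤ ⨆ i ∈ s, (U ⊓ Eg T (μ i))) {κ κ' : K} (hκ : κ * κ' = 1) {v : V}
    (hv : T v = κ • v) (h : ∀ w ∈ U ⊓ Eg T κ', B v w = 0) : ∀ w ∈ U, B v w = 0 := by
  intro w hw
  have h1 : ∀ i ∈ s, U ⊓ Eg T (μ i) ≤ LinearMap.ker (B v) := by
    intro i _ w hw
    rw [LinearMap.mem_ker]
    by_cases hi : κ * μ i = 1
    · have : μ i = κ' := by
        have hκ0 : κ ≠ 0 := by rintro rfl; rw [zero_mul] at hκ; exact zero_ne_one hκ
        exact mul_left_cancel₀ hκ0 (hi.trans hκ.symm)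
      rw [this] at hw
      exact h w hw
    · have h2 := hB v w
      rw [hv, mem_Eg.1 hw.2, map_smul, map_smul, LinearMap.smul_apply, smul_eq_mul, smul_eq_mul, ← mul_assoc] at h2
      have h3 : (κ * μ i - 1) * B v w = 0 := by linear_combination h2
      exact (mul_eq_zero.1 h3).resolve_left (sub_ne_zero.2 hi)
  exact (hU.trans (iSup₂_le h1)) hw

end Cfsg.Agent.H935.A7Q
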