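import Cfsg.Agent.H637.A7Cov
import Cfsg.Agent.H935.A7Q.Lin

/-!
# `2.A₇` with an invariant symmetric form: the setting (helper935)
-/

set_option autoImplicit false
set_option linter.unusedSectionVars false

namespace Cfsg.Agent.H935.A7Q

open Module Equiv.Perm Cfsg.Agent.H637.A7Grp Cfsg.Agent.H637.A7Cov

/-- the setting: `D` is a double cover of `A₇`, `ρ` a faithful irreducible representation with a symmetric form -/
structure Ctx {K V D : Type*} [Field K] [AddCommGroup V] [Module K V] [Group D] (π : D →* alternatingGroup (Fin 7))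
    (g : Fin 5 → D) (z : D) (ρ : D →* Module.End K V) (B : V →ₗ[K] V →ₗ[K] K) : Prop where
  good : Good π g z
  rz : ∀ v, ρ z v = -v
  sym : ∀ v w, B v w = B w v
  inv : ∀ d v w, B (ρ d v) (ρ d w) = B v w
  nd : ∀ v, (∀ w, B v w = 0) → v = 0
  irr : ∀ U : Submodule K V, (∀ d, ∀ v ∈ U, ρ d v ∈ U) → U = ⊥ ∨ U = ⊤
  two : (2 : K) ≠ 0

section group

variable {D : Type*} [Group D] {π : D →* alternatingGroup (Fin 7)} {g : Fin 5 → D} {z : D} (H : Good π g z)
include H

theorem zpow_odd {n : ℕ} (hn : Odd n) : z ^ n = z := by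
  obtain ⟨k, rfl⟩ := hn
  rw [pow_succ, pow_mul, pow_two, H.zz, one_pow, one_mul]

/-- lifts of odd order are unique -/
theorem eq_odd {n : ℕ} (hn : Odd n) {x y : D} (h : π x = π y) (hx : x ^ n = 1) (hy : y ^ n = 1) : x = y := by
  rcases H.eq_or h with h1 | h1
  · exact h1
  · have hc : Commute z y := H.zc y
    have h2 : x ^ n = z := by rw [h1, hc.mul_pow, hy, mul_one, zpow_odd H hn]
    rw [hx] at h2
    rw [h1, ← h2, one_mul]

/-- the lift of odd order -/
theorem lift_pow {n : ℕ} (hn : Odd n) {x : D} (h : π x ^ n = 1) : (x ^ (n + 1)) ^ n = 1 ∧ π (x ^ (n + 1)) = π x := by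
  refine ⟨?_, ?_⟩
  · rw [← pow_mul, mul_comm, pow_mul]
    obtain ⟨k, hk⟩ := hn
    have h2 : n + 1 = 2 * (k + 1) := by omega
    rcases H.ker (x ^ n) (by rw [map_pow, h]) with h1 | h1
    · rw [h1, one_pow]
    · rw [h1, h2, pow_mul, pow_two, H.zz, one_pow]
  · rw [map_pow, pow_succ, h, one_mul]

theorem pi_word (l : List (Fin 5)) : π ((l.map g).prod) = (l.map s).prod := by
  induction l with
  | nil => simp
  | cons i l ih => rw [List.map_cons, List.prod_cons, map_mul, ih, H.gP, List.map_cons, List.prod_cons]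

end group

variable {K V D : Type*} [Field K] [AddCommGroup V] [Module K V] [Group D] {π : D →* alternatingGroup (Fin 7)}
  {g : Fin 5 → D} {z : D} {ρ : D →* Module.End K V} {B : V →ₗ[K] V →ₗ[K] K} (C : Ctx π g z ρ B)

/-- the representation is given by invertible operators -/
theorem rho_mul (x y : D) (v : V) : ρ (x * y) v = ρ x (ρ y v) := by rw [map_mul]; rfl

theorem rho_inj (x : D) {v : V} (h : ρ x v = 0) : v = 0 := by
  have h1 : ρ (x⁻¹ * x) v = 0 := by rw [rho_mul, h, map_zero]
  rw [inv_mul_cancel, map_one] at h1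
  exact h1

include C

/-- an element whose square is `z` acts without fixed vectors -/
theorem no_fix {y : D} (hy : y * y = z) {v : V} (h : ρ y v = v) : v = 0 := by
  have h1 : ρ z v = v := by rw [← hy, rho_mul, h, h]
  rw [C.rz] at h1
  have h2 : (2 : K) • v = 0 := by
    rw [two_smul]
    nth_rewrite 1 [← h1]
    exact neg_add_cancel v
  exact (smul_eq_zero.1 h2).resolve_left C.two

theorem B_neg {y : D} (hy : y * y = z) (v w : V) : B v (ρ y w) = -B w (ρ y v) := by
  rw [← C.inv y v, ← rho_mul, hy, C.rz, map_neg, C.sym]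

/-- a multiplicity space swapped with its dual by an element of square `z` has even dimension -/
theorem even_finrank [FiniteDimensional K V] {y : D} (hy : y * y = z) {U U' : Submodule K V} (h1 : ∀ v ∈ U, ρ y v ∈ U')
    (h2 : ∀ v ∈ U', ρ y v ∈ U) (hnd : ∀ v ∈ U, (∀ w ∈ U', B v w = 0) → v = 0) : Even (finrank K U) := by
  refine even_of_skew C.two U (B.compl₂ (ρ y)) ?_ ?_
  · intro v _ w _
    rw [LinearMap.compl₂_apply, LinearMap.compl₂_apply]
    exact B_neg C hy v w
  · intro v hv h
    refine hnd v hv fun w hw => ?_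
    have h3 := h (ρ y w) (h2 w hw)
    rw [LinearMap.compl₂_apply, ← rho_mul, hy, C.rz, map_neg, neg_eq_zero] at h3
    exact h3

theorem finrank_le_rho [FiniteDimensional K V] (x : D) {U U' : Submodule K V} (h : ∀ v ∈ U, ρ x v ∈ U') :
    finrank K U ≤ finrank K U' :=
  finrank_le_map (ρ x) (fun _ _ h0 => rho_inj x h0) h

end Cfsg.Agent.H935.A7Q
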