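import Cfsg.Agent.H935.A7Q.Cross

/-!
# The totally singular `2.A₆`-invariant subspace of dimension six in characteristic three (helper935)
-/

set_option autoImplicit false
set_option linter.unusedSectionVars false

namespace Cfsg.Agent.H935.A7Q

open Module Equiv.Perm Cfsg.Agent.H637.A7Grp Cfsg.Agent.H637.A7Cov

/-! ### the transversal of `3² : 4` in `A₆` consisting of the identity and nine involutions -/

/-- the transversal -/
def nb : Fin 10 → alternatingGroup (Fin 7) :=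
  ![1, s 0 * s 1, s 0 * s 2, s 0 * s 3, s 1 * s 0, s 1 * s 2, s 1 * s 3, s 2 * s 0, s 2 * s 3, s 3 * s 0]

/-- the table of the left multiplication with the generators -/
def tb : Fin 4 → Fin 10 → Fin 10 × ℕ × ℕ × ℕ :=
  ![![(0, 1, 0, 0), (8, 2, 1, 3), (6, 0, 0, 1), (5, 0, 0, 3), (1, 1, 0, 0), (9, 2, 0, 1), (7, 2, 0, 3), (2, 1, 0, 0),
      (4, 0, 1, 1), (3, 1, 0, 0)],
    ![(4, 2, 0, 0), (0, 2, 0, 0), (7, 1, 1, 2), (9, 1, 2, 2), (1, 2, 0, 0), (2, 2, 1, 2), (3, 2, 2, 2), (5, 1, 0, 0),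
      (8, 0, 1, 0), (6, 1, 0, 0)],
    ![(7, 2, 0, 0), (4, 1, 1, 2), (0, 2, 0, 0), (9, 1, 0, 2), (5, 0, 1, 2), (1, 1, 0, 0), (6, 0, 2, 0), (2, 2, 0, 0),
      (3, 2, 0, 2), (8, 1, 0, 0)],
    ![(9, 2, 0, 0), (4, 1, 2, 2), (7, 1, 0, 2), (0, 2, 0, 0), (6, 0, 2, 2), (5, 0, 1, 0), (1, 1, 0, 0), (8, 0, 0, 2),
      (2, 1, 0, 0), (3, 2, 0, 0)]]

theorem tb_eq : ∀ i : Fin 4, ∀ j : Fin 10, s i.castSucc * nb j =
    nb (tb i j).1 * (s 0 ^ (tb i j).2.1 * bb ^ (tb i j).2.2.1 * sg ^ (tb i j).2.2.2) := by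
  decide +kernel

theorem nb_sq : ∀ j, nb j * nb j = 1 := by decide +kernel

variable {K V D : Type*} [Field K] [AddCommGroup V] [Module K V] [Group D] {π : D →* alternatingGroup (Fin 7)}
  {g : Fin 5 → D} {z : D} {ρ : D →* Module.End K V} {B : V →ₗ[K] V →ₗ[K] K}

/-! ### invariance -/

/-- `x` leaves `W` invariant -/
def Iv (ρ : D →* Module.End K V) (W : Submodule K V) (x : D) : Prop := ∀ v ∈ W, ρ x v ∈ W

theorem Iv.mul {W : Submodule K V} {x y : D} (hx : Iv ρ W x) (hy : Iv ρ W y) : Iv ρ W (x * y) := by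
  intro v hv
  rw [rho_mul]
  exact hx _ (hy _ hv)

theorem Iv.one (W : Submodule K V) : Iv ρ W (1 : D) := by
  intro v hv
  rw [map_one]
  exact hv

theorem Iv.pow {W : Submodule K V} {x : D} (hx : Iv ρ W x) (n : ℕ) : Iv ρ W (x ^ n) := by
  induction n with
  | zero => rw [pow_zero]; exact Iv.one W
  | succ n ih => rw [pow_succ]; exact ih.mul hx

theorem Iv.inv [Finite D] {W : Submodule K V} {x : D} (hx : Iv ρ W x) : Iv ρ W x⁻¹ := by
  have h1 : x⁻¹ = x ^ (orderOf x - 1) := by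
    apply inv_eq_of_mul_eq_one_left
    rw [← pow_succ, Nat.sub_add_cancel (orderOf_pos x), pow_orderOf_eq_one]
  rw [h1]
  exact hx.pow _

theorem Iv.list {W : Submodule K V} {l : List (Fin 5)} (hl : ∀ i ∈ l, Iv ρ W (g i)) : Iv ρ W ((l.map g).prod) := by
  induction l with
  | nil => exact Iv.one W
  | cons i l ih =>
    rw [List.map_cons, List.prod_cons]
    exact (hl i (by simp)).mul (ih fun j hj => hl j (by simp [hj]))

theorem Iv.congr (C : Ctx π g z ρ B) {W : Submodule K V} {x y : D} (hy : Iv ρ W y) (h : π x = π y) : Iv ρ W x := by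
  rcases C.good.eq_or h with h1 | h1
  · rw [h1]; exact hy
  · rw [h1]
    intro v hv
    rw [rho_mul, C.rz]
    exact W.neg_mem (hy v hv)

theorem Iv.word (C : Ctx π g z ρ B) {W : Submodule K V} {l : List (Fin 5)} (hl : ∀ i ∈ l, Iv ρ W (g i)) {x : D}
    (hx : π x = (l.map s).prod) : Iv ρ W x :=
  (Iv.list hl).congr C (hx.trans (pi_word C.good l).symm)

/-- the last vector outside -/
theorem last {W U : Submodule K V} (l : List (V →ₗ[K] V)) (hl : ∀ f ∈ l, ∀ v ∈ U, f v ∈ U) :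
    ∀ v ∈ U, v ∉ W → l.foldl (fun v f => f v) v ∈ W → ∃ u ∈ U, u ∉ W ∧ ∃ f ∈ l, f u ∈ W := by
  induction l with
  | nil => intro v _ hv h; exact absurd h hv
  | cons f l ih =>
    intro v hv hv' h
    by_cases h1 : f v ∈ W
    · exact ⟨v, hv, hv', f, by simp, h1⟩
    · obtain ⟨u, hu, hu', f', hf', h2⟩ := ih (fun f' hf' => hl f' (by simp [hf'])) (f v) (hl f (by simp) v hv) h1 h
      exact ⟨u, hu, hu', f', by simp [hf'], h2⟩

/-- the orthogonal space -/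
def Pp (B : V →ₗ[K] V →ₗ[K] K) (W : Submodule K V) : Submodule K V where
  carrier := {v | ∀ w ∈ W, B v w = 0}
  add_mem' := by
    intro a b ha hb w hw
    rw [map_add, LinearMap.add_apply, ha w hw, hb w hw, add_zero]
  zero_mem' := by
    intro w _
    rw [map_zero, LinearMap.zero_apply]
  smul_mem' := by
    intro c v hv w hw
    rw [map_smul, LinearMap.smul_apply, hv w hw, smul_zero]

theorem Iv.perp (C : Ctx π g z ρ B) [Finite D] {W : Submodule K V} {x : D} (hx : Iv ρ W x) : Iv ρ (Pp B W) x := by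
  intro v hv w hw
  have h1 : w = ρ x (ρ x⁻¹ w) := by rw [← rho_mul, mul_inv_cancel, map_one]; rfl
  rw [h1, C.inv]
  exact hv _ (hx.inv w hw)

/-- the state of the search: `2.A₆`-invariant and totally singular -/
structure St (g : Fin 5 → D) (ρ : D →* Module.End K V) (B : V →ₗ[K] V →ₗ[K] K) (W : Submodule K V) : Prop where
  iv : ∀ i, i ≠ 4 → Iv ρ W (g i)
  iso : ∀ v ∈ W, ∀ w ∈ W, B v w = 0

section lagr

variable (C : Ctx π g z ρ B) {W : Submodule K V} (S : St g ρ B W) {b σ q : D} (E : El π z (g 0) b σ q)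
  (hσ : σ = g 1 * g 3 * g 0 * g 0 * g 2) (hb : b = (g 1 * g 2 * g 3 * g 1 * g 2) ^ 4)

include S hσ in
theorem iv_sigma : Iv ρ W σ := by
  rw [hσ]
  exact ((((S.iv 1 (by decide)).mul (S.iv 3 (by decide))).mul (S.iv 0 (by decide))).mul (S.iv 0 (by decide))).mul
    (S.iv 2 (by decide))

include S hb in
theorem iv_b : Iv ρ W b := by
  rw [hb]
  exact (((((S.iv 1 (by decide)).mul (S.iv 2 (by decide))).mul (S.iv 3 (by decide))).mul (S.iv 1 (by decide))).mul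
    (S.iv 2 (by decide))).pow 4

include C S E hσ hb

/-- the highest weight vector modulo `W` -/
theorem exists_hw (h3 : (3 : K) = 0) {l : K} (hl : l ^ 4 = -1) {v₀ : V} (hv₀ : v₀ ∈ Pp B W) (hv₀' : v₀ ∉ W) :
    ∃ w ∈ Pp B W, w ∉ W ∧ ρ (g 0) w - w ∈ W ∧ ρ b w - w ∈ W ∧ ∃ κ : K, κ ^ 4 = -1 ∧ ρ σ w - κ • w ∈ W := by
  have hfin := C.good.fin
  have iva := S.iv 0 (by decide)
  have ivb := iv_b S hb
  have ivs := iv_sigma S hσ
  have cub : ∀ {x : D}, x ^ 3 = 1 → ∀ v : V,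
      [ρ x - 1, ρ x - 1, ρ x - 1].foldl (fun v (f : V →ₗ[K] V) => f v) v = 0 := by
    intro x hx v
    have h1 : ρ x (ρ x (ρ x v)) = v := by
      rw [← rho_mul, ← rho_mul, show x * x * x = x ^ 3 by rw [pow_succ, pow_two], hx, map_one]
      rfl
    simp only [List.foldl_cons, List.foldl_nil, LinearMap.sub_apply, Module.End.one_apply, map_sub]
    rw [h1]
    have h4 : (3 : K) • (ρ x v - ρ x (ρ x v)) = 0 := by rw [h3, zero_smul]
    rw [← h4]
    module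
  -- first step
  have hU0 : ∀ f ∈ [ρ (g 0) - 1, ρ (g 0) - 1, ρ (g 0) - 1], ∀ v ∈ Pp B W, (f : V →ₗ[K] V) v ∈ Pp B W := by
    intro f hf v hv
    have h1 : f = ρ (g 0) - 1 := by simpa using hf
    rw [h1]
    exact (Pp B W).sub_mem (iva.perp C v hv) hv
  obtain ⟨u₁, hu₁, hu₁', f₁, hf₁, h1⟩ := last _ hU0 v₀ hv₀ hv₀' (by rw [cub (C.good.cube 0)]; exact W.zero_mem)
  have h1' : ρ (g 0) u₁ - u₁ ∈ W := by
    have : f₁ = ρ (g 0) - 1 := by simpa using hf₁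
    rw [this] at h1
    exact h1
  -- second step
  let U₁ : Submodule K V := Pp B W ⊓ W.comap (ρ (g 0) - 1)
  have hU1 : ∀ f ∈ [ρ b - 1, ρ b - 1, ρ b - 1], ∀ v ∈ U₁, (f : V →ₗ[K] V) v ∈ U₁ := by
    intro f hf v hv
    have h1 : f = ρ b - 1 := by simpa using hf
    rw [h1]
    refine ⟨(Pp B W).sub_mem (ivb.perp C v hv.1) hv.1, ?_⟩
    change ρ (g 0) (ρ b v - v) - (ρ b v - v) ∈ W
    have hva : ρ (g 0) v - v ∈ W := hv.2
    have h2 : ρ (g 0) (ρ b v - v) - (ρ b v - v) = ρ b (ρ (g 0) v - v) - (ρ (g 0) v - v) := by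
      rw [map_sub, map_sub, ← rho_mul, ← rho_mul, E.ab]
      abel
    rw [h2]
    exact W.sub_mem (ivb _ hva) hva
  obtain ⟨u₂, hu₂, hu₂', f₂, hf₂, h2⟩ := last _ hU1 u₁ ⟨hu₁, h1'⟩ hu₁' (by rw [cub E.b3]; exact W.zero_mem)
  have h2' : ρ b u₂ - u₂ ∈ W := by
    have : f₂ = ρ b - 1 := by simpa using hf₂
    rw [this] at h2
    exact h2
  -- third step
  let U₂ : Submodule K V := U₁ ⊓ W.comap (ρ b - 1)
  have hU2 : ∀ v ∈ U₂, ρ σ v ∈ U₂ := by
    intro v hv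
    have hva : ρ (g 0) v - v ∈ W := hv.1.2
    have hvb : ρ b v - v ∈ W := hv.2
    refine ⟨⟨ivs.perp C v hv.1.1, ?_⟩, ?_⟩
    · change ρ (g 0) (ρ σ v) - ρ σ v ∈ W
      have h3 : ρ (g 0) (ρ σ v) - ρ σ v = ρ σ (ρ b (ρ b v - v) + (ρ b v - v)) := by
        rw [← rho_mul, E.as, rho_mul, pow_two, rho_mul, ← map_sub, map_sub (ρ b)]
        congr 1
        abel
      rw [h3]
      exact ivs _ (W.add_mem (ivb _ hvb) hvb)
    · change ρ b (ρ σ v) - ρ σ v ∈ W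
      rw [← rho_mul, E.bs, rho_mul, ← map_sub]
      exact ivs _ hva
  let L : List (V →ₗ[K] V) := [ρ σ - l • 1, ρ σ - (-l) • 1, ρ σ - (l ^ 3) • 1, ρ σ - (-l ^ 3) • 1]
  have hL : ∀ f ∈ L, ∃ κ : K, κ ^ 4 = -1 ∧ f = ρ σ - κ • 1 := by
    intro f hf
    simp only [L, List.mem_cons, List.mem_nil_iff, or_false] at hf
    have h12 : (l ^ 3) ^ 4 = -1 := by rw [← pow_mul, mul_comm, pow_mul, hl]; norm_num
    rcases hf with h | h | h | h
    · exact ⟨l, hl, h⟩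
    · exact ⟨-l, by rw [← hl]; ring, h⟩
    · exact ⟨l ^ 3, h12, h⟩
    · exact ⟨-l ^ 3, by rw [← h12]; ring, h⟩
  have hU2' : ∀ f ∈ L, ∀ v ∈ U₂, (f : V →ₗ[K] V) v ∈ U₂ := by
    intro f hf v hv
    obtain ⟨κ, -, rfl⟩ := hL f hf
    exact U₂.sub_mem (hU2 v hv) (U₂.smul_mem κ hv)
  have hfold : L.foldl (fun v (f : V →ₗ[K] V) => f v) u₂ = 0 := by
    have h4 : ρ σ (ρ σ (ρ σ (ρ σ u₂))) = -u₂ := by
      rw [← rho_mul, ← rho_mul, ← rho_mul, show σ * σ * σ * σ = σ * σ * (σ * σ) by group, E.s4, C.rz]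
    simp only [L, List.foldl_cons, List.foldl_nil, LinearMap.sub_apply, LinearMap.smul_apply, Module.End.one_apply,
      map_sub, map_smul]
    rw [h4]
    have e1 : l * (l ^ 3) = -1 := by rw [← hl]; ring
    have e2 : l ^ 6 = -l ^ 2 := by linear_combination l ^ 2 * hl
    have e3 : l ^ 8 = 1 := by linear_combination (l ^ 4 - 1) * hl
    set x1 := ρ σ u₂
    set x2 := ρ σ x1
    set x3 := ρ σ x2
    have key : ∀ c3 c2 c1 c0 : K, c3 = 0 → c2 = 0 → c1 = 0 → c0 = 0 →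
        c3 • x3 + c2 • x2 + c1 • x1 + c0 • u₂ = 0 := by
      rintro _ _ _ _ rfl rfl rfl rfl
      simp
    rw [← key 0 (-(l ^ 2) - l ^ 6) 0 (l ^ 8 - 1) rfl (by rw [e2]; ring) rfl (by rw [e3]; ring)]
    module
  obtain ⟨w, hw, hw', f, hf, h4⟩ := last L hU2' u₂ ⟨hu₂, h2'⟩ hu₂' (by rw [hfold]; exact W.zero_mem)
  obtain ⟨κ, hκ, rfl⟩ := hL f hf
  exact ⟨w, hw.1.1, hw', hw.1.2, hw.2, κ, hκ, h4⟩

end lagr

end Cfsg.Agent.H935.A7Q
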