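import Cfsg.Agent.H935.A7Q.Lagr

/-!
# A `2.A₆`-invariant Lagrangian subspace (helper935)
-/

set_option autoImplicit false
set_option linter.unusedSectionVars false

namespace Cfsg.Agent.H935.A7Q

open Module Equiv.Perm Cfsg.Agent.H637.A7Grp Cfsg.Agent.H637.A7Cov

variable {K V D : Type*} [Field K] [AddCommGroup V] [Module K V] [Group D] {π : D →* alternatingGroup (Fin 7)}
  {g : Fin 5 → D} {z : D} {ρ : D →* Module.End K V} {B : V →ₗ[K] V →ₗ[K] K}

/-- eigenvector modulo `W` -/
def Cc (ρ : D →* Module.End K V) (W : Submodule K V) (w : V) (h : D) : Prop :=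
  Iv ρ W h ∧ ∃ χ : K, ρ h w - χ • w ∈ W

theorem Cc.mul {W : Submodule K V} {w : V} {x y : D} (hx : Cc ρ W w x) (hy : Cc ρ W w y) : Cc ρ W w (x * y) := by
  obtain ⟨ix, χ, h1⟩ := hx
  obtain ⟨iy, χ', h2⟩ := hy
  refine ⟨ix.mul iy, χ' * χ, ?_⟩
  have h3 : ρ (x * y) w - (χ' * χ) • w = ρ x (ρ y w - χ' • w) + χ' • (ρ x w - χ • w) := by
    rw [rho_mul, map_sub, map_smul, smul_sub, smul_smul]
    abel
  rw [h3]
  exact W.add_mem (ix _ h2) (W.smul_mem _ h1)

theorem Cc.one {W : Submodule K V} {w : V} : Cc ρ W w (1 : D) := by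
  refine ⟨Iv.one W, 1, ?_⟩
  rw [map_one, one_smul]
  have : (1 : Module.End K V) w - w = 0 := sub_self w
  rw [this]
  exact W.zero_mem

theorem Cc.pow {W : Submodule K V} {w : V} {x : D} (hx : Cc ρ W w x) (n : ℕ) : Cc ρ W w (x ^ n) := by
  induction n with
  | zero => rw [pow_zero]; exact Cc.one
  | succ n ih => rw [pow_succ]; exact ih.mul hx

/-- the group `2.A₆` -/
def H6 (g : Fin 5 → D) : Subgroup D := Subgroup.closure (Set.range fun i : Fin 4 => g i.castSucc)

theorem iv_H6 {W : Submodule K V} [Finite D] (h : ∀ i, i ≠ 4 → Iv ρ W (g i)) {x : D} (hx : x ∈ H6 g) : Iv ρ W x := by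
  induction hx using Subgroup.closure_induction with
  | mem x hx =>
    obtain ⟨i, rfl⟩ := hx
    exact h _ (by have := i.2; intro h; have h2 := congrArg Fin.val h; simp at h2; omega)
  | one => exact Iv.one W
  | mul x y _ _ hx hy => exact hx.mul hy
  | inv x _ hx => exact hx.inv

section

variable (C : Ctx π g z ρ B) {W : Submodule K V} (S : St g ρ B W) {b σ q : D} (E : El π z (g 0) b σ q)
include C E

theorem cover (hsg : π σ = sg) {w : V} (ca : Cc ρ W w (g 0)) (cb : Cc ρ W w b) (cs : Cc ρ W w σ) {x : D}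
    (hx : x ∈ H6 g) : ∃ (j : Fin 10) (h : D), Cc ρ W w h ∧ π x = nb j * π h := by
  have step : ∀ (i : Fin 4) (y : D), (∃ (j : Fin 10) (h : D), Cc ρ W w h ∧ π y = nb j * π h) →
      ∃ (j : Fin 10) (h : D), Cc ρ W w h ∧ π (g i.castSucc * y) = nb j * π h := by
    rintro i y ⟨j, h, hC, hy⟩
    refine ⟨(tb i j).1, (g 0) ^ (tb i j).2.1 * b ^ (tb i j).2.2.1 * σ ^ (tb i j).2.2.2 * h,
      (((ca.pow _).mul (cb.pow _)).mul (cs.pow _)).mul hC, ?_⟩
    rw [map_mul, hy, C.good.gP, ← mul_assoc, tb_eq, map_mul, map_mul, map_mul, map_pow, map_pow, map_pow, E.pb, hsg,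
      C.good.gP]
    simp only [mul_assoc]
  unfold H6 at hx
  induction hx using Subgroup.closure_induction_left with
  | one => exact ⟨0, 1, Cc.one, by rw [map_one]; rfl⟩
  | mul_left x hx y _ ih =>
    obtain ⟨i, rfl⟩ := hx
    exact step i y ih
  | inv_mul_cancel x hx y _ ih =>
    obtain ⟨i, rfl⟩ := hx
    have h1 : (g i.castSucc)⁻¹ * y = g i.castSucc * (g i.castSucc * y) := by
      rw [← mul_assoc]
      congr 1
      apply inv_eq_of_mul_eq_one_left
      rw [← C.good.cube i.castSucc, pow_succ, pow_two]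
    change ∃ (j : Fin 10) (h : D), Cc ρ W w h ∧ π ((g i.castSucc)⁻¹ * y) = nb j * π h
    rw [h1]
    exact step i _ (step i y ih)

include S

/-- the orbit of the highest weight vector is totally singular -/
theorem key (hsg : π σ = sg) {w : V} (hw : w ∈ Pp B W) (ca : Cc ρ W w (g 0)) (cb : Cc ρ W w b) {κ : K}
    (hκ : κ ^ 4 = -1) (is : Iv ρ W σ) (cs : ρ σ w - κ • w ∈ W) {x : D} (hx : x ∈ H6 g) : B w (ρ x w) = 0 := by
  have hfin := C.good.fin
  have hW : ∀ u ∈ W, B w u = 0 := hw
  -- the vector is singular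
  have hww : B w w = 0 := by
    have h1 := C.inv σ w w
    have h2 : ρ σ w = (ρ σ w - κ • w) + κ • w := by abel
    have h3 : B w (ρ σ w - κ • w) = 0 := hW _ cs
    have h4 : B (ρ σ w - κ • w) w = 0 := by rw [C.sym]; exact h3
    have h5 : B (ρ σ w - κ • w) (ρ σ w - κ • w) = 0 := S.iso _ cs _ cs
    rw [h2] at h1
    simp only [map_add, LinearMap.add_apply, map_smul, LinearMap.smul_apply, smul_eq_mul, h3, h4, h5] at h1
    have h6 : (κ * κ - 1) * B w w = 0 := by linear_combination h1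
    rcases mul_eq_zero.1 h6 with h | h
    · exfalso
      apply C.two
      have h7 : κ ^ 4 = 1 := by linear_combination (κ * κ + 1) * h
      rw [hκ] at h7
      linear_combination -h7
    · exact h
  obtain ⟨j, h, ⟨ih, χ, hχ⟩, hj⟩ := cover C E hsg ca cb ⟨is, κ, cs⟩ hx
  set n := x * h⁻¹ with hn
  have hxn : x = n * h := by rw [hn, inv_mul_cancel_right]
  have hπn : π n = nb j := by rw [hn, map_mul, map_inv, hj, mul_inv_cancel_right]
  have ivn : Iv ρ W n := (iv_H6 S.iv hx).mul ih.inv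
  have hnw : B w (ρ n w) = 0 := by
    by_cases h1 : π n = 1
    · rcases C.good.ker n h1 with h2 | h2
      · rw [h2, map_one]; exact hww
      · rw [h2, C.rz, map_neg, hww, neg_zero]
    · have h2 : n * n = z := C.good.sq_eq (by rw [hπn]; exact nb_sq j) h1
      have h3 := B_neg C h2 w w
      have h4 : (2 : K) * B w (ρ n w) = 0 := by linear_combination h3
      exact (mul_eq_zero.1 h4).resolve_left C.two
  have h1 : ρ x w = χ • ρ n w + ρ n (ρ h w - χ • w) := by
    rw [hxn, rho_mul, map_sub, map_smul]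
    abel
  rw [h1, map_add, map_smul, hnw, smul_zero, zero_add]
  exact hW _ (ivn _ hχ)

/-- enlarging the space -/
theorem extend (hsg : π σ = sg) {w : V} (hw : w ∈ Pp B W) (ca : Cc ρ W w (g 0)) (cb : Cc ρ W w b) {κ : K}
    (hκ : κ ^ 4 = -1) (is : Iv ρ W σ) (cs : ρ σ w - κ • w ∈ W) :
    St g ρ B (W ⊔ Submodule.span K (Set.range fun x : H6 g => ρ x w)) := by
  have hfin := C.good.fin
  set O := Submodule.span K (Set.range fun x : H6 g => ρ x w) with hO
  have hk : ∀ x ∈ H6 g, B w (ρ x w) = 0 := fun x hx => key C S E hsg hw ca cb hκ is cs hx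
  have hOP : O ≤ Pp B W := by
    rw [hO, Submodule.span_le]
    rintro _ ⟨x, rfl⟩
    exact (iv_H6 S.iv x.2).perp C w hw
  have hOO : ∀ o ∈ O, ∀ o' ∈ O, B o o' = 0 := by
    intro o ho
    have h1 : ∀ x ∈ H6 g, B o (ρ x w) = 0 := by
      intro x hx
      rw [hO] at ho
      induction ho using Submodule.span_induction with
      | mem o ho =>
        obtain ⟨y, rfl⟩ := ho
        have h2 : ρ x w = ρ y (ρ ((y : D)⁻¹ * x) w) := by rw [← rho_mul, mul_inv_cancel_left]
        change B (ρ y w) (ρ x w) = 0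
        rw [h2, C.inv]
        exact hk _ (mul_mem (inv_mem y.2) hx)
      | zero => rw [map_zero, LinearMap.zero_apply]
      | add u v _ _ hu hv => rw [map_add, LinearMap.add_apply, hu, hv, add_zero]
      | smul c u _ hu => rw [map_smul, LinearMap.smul_apply, hu, smul_zero]
    intro o' ho'
    rw [hO] at ho'
    induction ho' using Submodule.span_induction with
    | mem o' ho' =>
      obtain ⟨y, rfl⟩ := ho'
      exact h1 y y.2
    | zero => rw [map_zero]
    | add u v _ _ hu hv => rw [map_add, hu, hv, add_zero]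
    | smul c u _ hu => rw [map_smul, hu, smul_zero]
  constructor
  · intro i hi v hv
    have hgi : g i ∈ H6 g := by
      refine Subgroup.subset_closure ⟨⟨i.1, ?_⟩, rfl⟩
      have := i.2
      have h2 : i.1 ≠ 4 := fun h => hi (Fin.ext h)
      omega
    have hOi : ∀ o ∈ O, ρ (g i) o ∈ O := by
      intro o ho
      rw [hO] at ho
      induction ho using Submodule.span_induction with
      | mem o ho =>
        obtain ⟨y, rfl⟩ := ho
        refine Submodule.subset_span ⟨⟨g i * y, mul_mem hgi y.2⟩, ?_⟩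
        change ρ (g i * y) w = ρ (g i) (ρ y w)
        rw [rho_mul]
      | zero => rw [map_zero]; exact O.zero_mem
      | add u v _ _ hu hv => rw [map_add]; exact O.add_mem hu hv
      | smul c u _ hu => rw [map_smul]; exact O.smul_mem _ hu
    obtain ⟨w₁, hw₁, o, ho, rfl⟩ := Submodule.mem_sup.1 hv
    rw [map_add]
    exact Submodule.add_mem_sup (S.iv i hi w₁ hw₁) (hOi o ho)
  · intro v hv v' hv'
    obtain ⟨w₁, hw₁, o, ho, rfl⟩ := Submodule.mem_sup.1 hv
    obtain ⟨w₂, hw₂, o', ho', rfl⟩ := Submodule.mem_sup.1 hv'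
    simp only [map_add, LinearMap.add_apply]
    rw [S.iso _ hw₁ _ hw₂, hOO o ho o' ho', hOP ho w₂ hw₂, C.sym w₁ o', hOP ho' w₁ hw₁]
    simp

end

/-- **The Lagrangian subspace.** -/
theorem exists_lagr (C : Ctx π g z ρ B) [FiniteDimensional K V] (h3 : (3 : K) = 0) {l : K} (hl : l ^ 4 = -1) :
    ∃ W : Submodule K V, St g ρ B W ∧ Pp B W = W := by
  obtain ⟨b, σ, q, E, hσ, hb⟩ := exists_el C.good
  have hsg : π σ = sg := by
    rw [hσ]; simp only [map_mul, C.good.gP]; rfl
  have hne : {W : Submodule K V | St g ρ B W}.Nonempty := by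
    refine ⟨⊥, ⟨fun i _ v hv => ?_, fun v hv w _ => ?_⟩⟩
    · rw [Submodule.mem_bot] at hv ⊢
      rw [hv, map_zero]
    · rw [(Submodule.mem_bot K).1 hv, map_zero, LinearMap.zero_apply]
  obtain ⟨W, S, hmax⟩ := WellFounded.has_min (wellFounded_gt (α := Submodule K V)) _ hne
  have S' : St g ρ B W := S
  refine ⟨W, S, le_antisymm ?_ (fun v hv w hw => S'.iso v hv w hw)⟩
  by_contra hcon
  obtain ⟨v₀, hv₀, hv₀'⟩ := Set.not_subset.1 hcon
  obtain ⟨w, hw, hw', ha, hb', κ, hκ, hs⟩ := exists_hw C S' E hσ hb h3 hl hv₀ hv₀'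
  have ca : Cc ρ W w (g 0) := ⟨S'.iv 0 (by decide), 1, by rw [one_smul]; exact ha⟩
  have cb : Cc ρ W w b := ⟨iv_b S' hb, 1, by rw [one_smul]; exact hb'⟩
  have h1 := extend C S' E hsg hw ca cb hκ (iv_sigma S' hσ) hs
  refine hmax _ h1 (lt_of_le_of_ne le_sup_left ?_)
  intro h2
  apply hw'
  rw [h2]
  refine Submodule.mem_sup_right (Submodule.subset_span ⟨1, ?_⟩)
  change ρ ((1 : H6 g) : D) w = w
  rw [Subgroup.coe_one, map_one]
  rfl

/-- the dimension of a Lagrangian subspace -/
theorem finrank_lagr (C : Ctx π g z ρ B) [FiniteDimensional K V] {W : Submodule K V} (h : Pp B W = W) :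
    2 * finrank K W = finrank K V := by
  have hnd : LinearMap.BilinForm.Nondegenerate B := by
    constructor
    · intro v hv; exact C.nd v hv
    · intro v hv; exact C.nd v (fun w => by rw [C.sym]; exact hv w)
  have h1 : LinearMap.BilinForm.orthogonal B W = W := by
    conv_rhs => rw [← h]
    ext v
    rw [LinearMap.BilinForm.mem_orthogonal_iff]
    constructor
    · intro h w hw; rw [C.sym]; exact h w hw
    · intro h w hw; rw [C.sym]; exact h w hw
  have h2 := LinearMap.BilinForm.finrank_orthogonal hnd W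
  rw [h1] at h2
  have h3 := Submodule.finrank_le W
  omega

end Cfsg.Agent.H935.A7Q
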