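import Cfsg.Agent.H935.A7Q.Lagr2

/-!
# `2.A₇` in dimension twelve with a symmetric form, characteristic three (helper935)
-/

set_option autoImplicit false
set_option linter.unusedSectionVars false

namespace Cfsg.Agent.H935.A7Q

open Module Equiv.Perm Cfsg.Agent.H637.A7Grp Cfsg.Agent.H637.A7Cov Polynomial

/-- `(1 2 4 3)(5 6)` -/
def tt : alternatingGroup (Fin 7) := ⟨c[1, 2, 4, 3] * c[5, 6], mem_alternatingGroup.2 (by decide +kernel)⟩

/-- `(0 1 2 3 4)` -/
def cc : alternatingGroup (Fin 7) := s 2 * s 1 * s 1 * s 0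

/-- `(1 2)(3 4)` -/
def yy : alternatingGroup (Fin 7) := ⟨c[1, 2] * c[3, 4], mem_alternatingGroup.2 (by decide +kernel)⟩

theorem cc_five : cc ^ 5 = 1 := by decide +kernel
theorem tt_cc : tt * cc * tt⁻¹ = cc * cc := by decide +kernel
theorem tt_sq : tt * tt = ([0, 1, 1, 0, 2].map s).prod := by decide +kernel
theorem tt_four : tt * tt * (tt * tt) = 1 := by decide +kernel
theorem tt_ne : tt * tt ≠ 1 := by decide +kernel
theorem tt_0 : tt⁻¹ * s 0 * tt = ([1, 1].map s).prod := by decide +kernel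
theorem tt_1 : tt⁻¹ * s 1 * tt = ([2, 1, 1].map s).prod := by decide +kernel
theorem tt_4 : s 4 = tt * ([3, 1, 1].map s).prod * tt⁻¹ := by decide +kernel
theorem tt_c : tt⁻¹ * cc * tt = ([2, 1, 1, 0, 2, 1, 1, 0, 2, 1, 1, 0].map s).prod := by decide +kernel
theorem yy_sq : yy * yy = 1 := by decide +kernel
theorem yy_ne : yy ≠ 1 := by decide +kernel
theorem yt_sq : yy * tt * (yy * tt) = 1 := by decide +kernel
theorem yt_ne : yy * tt ≠ 1 := by decide +kernel
theorem cx_sq : cc * (s 1 * (cc * cc) * (s 1)⁻¹) * (cc * (s 1 * (cc * cc) * (s 1)⁻¹)) = 1 := by decide +kernel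
theorem cx_ne : cc * (s 1 * (cc * cc) * (s 1)⁻¹) ≠ 1 := by decide +kernel

variable {K V D : Type*} [Field K] [AddCommGroup V] [Module K V] [Group D] {π : D →* alternatingGroup (Fin 7)}
  {g : Fin 5 → D} {z : D} {ρ : D →* Module.End K V} {B : V →ₗ[K] V →ₗ[K] K}

/-- elements -/
structure El3 (π : D →* alternatingGroup (Fin 7)) (g : Fin 5 → D) (z t c y : D) : Prop where
  pt : π t = tt
  pc : π c = cc
  c5 : c ^ 5 = 1
  tc : c * t = t * c ^ 3
  t4 : t * t * (t * t) = z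
  yy : y * y = z
  yt : t * y = y * t⁻¹
  cx : c * (g 1 * c ^ 2 * (g 1)⁻¹) * (c * (g 1 * c ^ 2 * (g 1)⁻¹)) = z

theorem exists_el3 (H : Good π g z) : ∃ t c y : D, El3 π g z t c y := by
  obtain ⟨t, ht⟩ := H.surj tt
  obtain ⟨y, hy⟩ := H.surj yy
  obtain ⟨c₀, hc₀⟩ := H.surj cc
  obtain ⟨h1, h2⟩ := lift_pow H (n := 5) ⟨2, rfl⟩ (x := c₀) (by rw [hc₀, cc_five])
  obtain ⟨c, hc⟩ : ∃ c, c = c₀ ^ (5 + 1) := ⟨_, rfl⟩
  rw [← hc] at h1 h2
  rw [hc₀] at h2
  have hyy : y * y = z := H.sq_eq (by rw [hy]; exact yy_sq) (by rw [hy]; exact yy_ne)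
  have e1 : t * c * t⁻¹ = c ^ 2 := by
    refine eq_odd H (n := 5) ⟨2, rfl⟩ ?_ (by rw [conj_pow, h1, mul_one, mul_inv_cancel])
      (by rw [← pow_mul, mul_comm, pow_mul, h1, one_pow])
    rw [map_mul, map_mul, map_inv, ht, map_pow, h2, tt_cc, pow_two]
  refine ⟨t, c, y, ⟨ht, h2, h1, ?_, ?_, hyy, ?_, ?_⟩⟩
  · have h3 : c = (t * c * t⁻¹) ^ 3 := by
      rw [e1, ← pow_mul, show 2 * 3 = 5 + 1 from rfl, pow_succ, h1, one_mul]
    rw [conj_pow] at h3
    nth_rewrite 1 [h3]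
    rw [inv_mul_cancel_right]
  · apply H.sq_eq
    · rw [map_mul, ht]; exact tt_four
    · rw [map_mul, ht]; exact tt_ne
  · have h3 : y * t * (y * t) = z := H.sq_eq (by rw [map_mul, hy, ht]; exact yt_sq) (by rw [map_mul, hy, ht]; exact yt_ne)
    rw [← hyy] at h3
    have h4 : t * y * t = y := by
      have h5 : y * (t * y * t) = y * y := by rw [← h3]; group
      exact mul_left_cancel h5
    rw [eq_mul_inv_iff_mul_eq]
    exact h4
  · apply H.sq_eq
    · simp only [map_mul, map_inv, H.gP, h2, pow_two]; exact cx_sq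
    · simp only [map_mul, map_inv, H.gP, h2, pow_two]; exact cx_ne

theorem aeval_five {T : V →ₗ[K] V} {ζ : K} (hζ : ζ ^ 4 + ζ ^ 3 + ζ ^ 2 + ζ + 1 = 0)
    (hT : ∀ v, T (T (T (T (T v)))) = v) (v : V) :
    aeval T (∏ i : Fin 5, (X - C ((![1, ζ, ζ ^ 2, ζ ^ 3, ζ ^ 4] : Fin 5 → K) i))) v = 0 := by
  have h1 : (∏ i : Fin 5, (X - C ((![1, ζ, ζ ^ 2, ζ ^ 3, ζ ^ 4] : Fin 5 → K) i))) = X ^ 5 - (1 : K[X]) := by
    rw [Fin.prod_univ_five]
    simp only [Matrix.cons_val_zero, Matrix.cons_val_one, Matrix.cons_val, map_one, map_pow]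
    obtain ⟨w, hw⟩ : ∃ w : K[X], w = C ζ := ⟨_, rfl⟩
    have h2 : w ^ 4 + w ^ 3 + w ^ 2 + w + 1 = 0 := by
      rw [hw, ← C_pow, ← C_pow, ← C_pow, ← C_add, ← C_add, ← C_add, ← C_1, ← C_add, hζ, C_0]
    rw [← hw]
    linear_combination (-X ^ 4 + X ^ 3 * w ^ 3 + X ^ 3 * w - X ^ 2 * w ^ 5 - X ^ 2 * w ^ 3 + X * w ^ 6 - w ^ 6 + w ^ 5 -
      w + 1) * h2
  rw [h1, map_sub, map_pow, aeval_X, map_one, LinearMap.sub_apply]
  change T (T (T (T (T v)))) - v = 0
  rw [hT, sub_self]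

theorem aeval_eight {T : V →ₗ[K] V} {l : K} (hl : l ^ 4 = -1)
    (hT : ∀ v, T (T (T (T v))) = -v) (v : V) :
    aeval T (∏ i : Fin 4, (X - C ((![l, -l, l ^ 3, -l ^ 3] : Fin 4 → K) i))) v = 0 := by
  have h1 : (∏ i : Fin 4, (X - C ((![l, -l, l ^ 3, -l ^ 3] : Fin 4 → K) i))) = X ^ 4 + (1 : K[X]) := by
    rw [Fin.prod_univ_four]
    simp only [Matrix.cons_val_zero, Matrix.cons_val_one, Matrix.cons_val, map_neg, map_pow]
    obtain ⟨w, hw⟩ : ∃ w : K[X], w = C l := ⟨_, rfl⟩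
    have h2 : w ^ 4 = -1 := by
      rw [hw, ← C_pow, hl, C_neg, C_1]
    rw [← hw]
    linear_combination (-w ^ 2 * X ^ 2 + w ^ 4 - 1) * h2
  rw [h1, map_add, map_pow, aeval_X, map_one, LinearMap.add_apply]
  change T (T (T (T v))) + v = 0
  rw [hT, neg_add_cancel]

theorem inj_eight {l : K} (hl : l ^ 4 = -1) (h2 : (2 : K) ≠ 0) :
    Function.Injective (![l, -l, l ^ 3, -l ^ 3] : Fin 4 → K) := by
  have l0 : l ≠ 0 := by
    rintro rfl
    apply h2
    linear_combination (2 : K) * hl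
  have e1 : l ≠ -l := by
    intro h
    have : (2 : K) * l = 0 := by linear_combination h
    exact (mul_ne_zero h2 l0) this
  have e1' : l ^ 3 ≠ -l ^ 3 := by
    intro h
    have : (2 : K) * l ^ 3 = 0 := by linear_combination h
    exact (mul_ne_zero h2 (pow_ne_zero 3 l0)) this
  have e2 : l ≠ l ^ 3 := by
    intro h
    have h3 : l * (l ^ 2 - 1) = 0 := by linear_combination -h
    have h4 := (mul_eq_zero.1 h3).resolve_left l0
    apply h2
    linear_combination hl - (l ^ 2 + 1) * h4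
  have e3 : l ≠ -l ^ 3 := by
    intro h
    have h3 : l * (l ^ 2 + 1) = 0 := by linear_combination h
    have h4 := (mul_eq_zero.1 h3).resolve_left l0
    apply h2
    linear_combination hl - (l ^ 2 - 1) * h4
  have e4 : -l ≠ l ^ 3 := fun h => e3 (by rw [← h, neg_neg])
  have e5 : -l ≠ -l ^ 3 := fun h => e2 (neg_injective h)
  intro i j h
  fin_cases i <;> fin_cases j
  all_goals first
    | rfl
    | exact absurd h e1
    | exact absurd h e2
    | exact absurd h e3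
    | exact absurd h e4
    | exact absurd h e5
    | exact absurd h e1'
    | exact absurd h.symm e1
    | exact absurd h.symm e2
    | exact absurd h.symm e3
    | exact absurd h.symm e4
    | exact absurd h.symm e5
    | exact absurd h.symm e1'

theorem inj_five {ζ : K} (hζ : ζ ^ 4 + ζ ^ 3 + ζ ^ 2 + ζ + 1 = 0) (h5 : (5 : K) ≠ 0) :
    Function.Injective (![1, ζ, ζ ^ 2, ζ ^ 3, ζ ^ 4] : Fin 5 → K) := by
  have h51 : ζ ^ 5 = 1 := by linear_combination (ζ - 1) * hζ
  have z0 : ζ ≠ 0 := by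
    rintro rfl
    apply h5
    linear_combination (5 : K) * hζ
  have e1 : (1 : K) ≠ ζ := by
    rintro rfl
    apply h5
    linear_combination hζ
  have e2 : (1 : K) ≠ ζ ^ 2 := by
    intro h
    apply e1
    linear_combination -(ζ ^ 2 + 1) * ζ * h - h51
  have e3 : (1 : K) ≠ ζ ^ 3 := by
    intro h
    apply e2
    linear_combination - ζ ^ 2 * h - h51
  have e4 : (1 : K) ≠ ζ ^ 4 := by
    intro h
    apply e1
    linear_combination - ζ * h - h51
  have f1 : ζ ≠ ζ ^ 2 := fun h => e1 (mul_left_cancel₀ z0 (by linear_combination h))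
  have f2 : ζ ≠ ζ ^ 3 := fun h => e2 (mul_left_cancel₀ z0 (by linear_combination h))
  have f3 : ζ ≠ ζ ^ 4 := fun h => e3 (mul_left_cancel₀ z0 (by linear_combination h))
  have f4 : ζ ^ 2 ≠ ζ ^ 3 := fun h => f1 (mul_left_cancel₀ z0 (by linear_combination h))
  have f5 : ζ ^ 2 ≠ ζ ^ 4 := fun h => f2 (mul_left_cancel₀ z0 (by linear_combination h))
  have f6 : ζ ^ 3 ≠ ζ ^ 4 := fun h => f4 (mul_left_cancel₀ z0 (by linear_combination h))
  intro i j h
  fin_cases i <;> fin_cases j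
  all_goals first
    | rfl
    | exact absurd h e1
    | exact absurd h e2
    | exact absurd h e3
    | exact absurd h e4
    | exact absurd h f1
    | exact absurd h f2
    | exact absurd h f3
    | exact absurd h f4
    | exact absurd h f5
    | exact absurd h f6
    | exact absurd h.symm e1
    | exact absurd h.symm e2
    | exact absurd h.symm e3
    | exact absurd h.symm e4
    | exact absurd h.symm f1
    | exact absurd h.symm f2
    | exact absurd h.symm f3
    | exact absurd h.symm f4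
    | exact absurd h.symm f5
    | exact absurd h.symm f6

end Cfsg.Agent.H935.A7Q
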